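import Cfsg.Agent.Lib.Helper55.KS.Defs
import Cfsg.Agent.Lib.Helper47.Basic2

set_option autoImplicit false

namespace Cfsg.Agent.Lib.Helper55.KS

open Subgroup
open Cfsg.Agent.Lib.Helper22 (conjS)
open Cfsg.Agent.Lib.Helper47 (IsSylowIn)
open Cfsg.Agent.Lib.Helper48 (ZN MS MEA)

universe u

variable {G : Type u} [Group G] [Finite G]

theorem pCoreOf_ne_bot_of_twoLocal {L : Subgroup G} (hL : Cfsg.IsTwoLocal L) :
    Cfsg.pCoreOf 2 L ≠ ⊥ := by
  obtain ⟨R, hR2, hR1, rfl⟩ := hL
  intro h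
  have h1 : R ≤ Cfsg.pCoreOf 2 (normalizer (R : Set G)) :=
    Cfsg.Agent.Lib.Helper49.le_pCoreOf le_normalizer le_rfl hR2
  rw [h] at h1
  exact hR1 (le_bot_iff.mp h1)

/-- (F0) a maximal 2-local is self-normalizing. -/
theorem normalizer_eq_of_max {L : Subgroup G} (hL : Cfsg.IsMaximalTwoLocal L) :
    normalizer (L : Set G) = L := by
  have h1 : Cfsg.IsTwoLocal (normalizer (Cfsg.pCoreOf 2 L : Set G)) :=
    ⟨_, Cfsg.Agent.Lib.Helper49.pCoreOf_isPGroup 2 L, pCoreOf_ne_bot_of_twoLocal hL.1, rfl⟩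
  have h2 := hL.2 _ h1 (Cfsg.Agent.Lib.Helper49.le_normalizer_pCoreOf 2 L)
  apply le_antisymm _ le_normalizer
  calc normalizer (L : Set G) ≤ normalizer (Cfsg.pCoreOf 2 L : Set G) :=
        Cfsg.Agent.Lib.Helper49.normalizer_le_normalizer_pCoreOf 2 L
    _ = L := h2

theorem isTwoLocal_centralizer {y : G} (h1 : y ≠ 1) (h2 : y * y = 1) :
    Cfsg.IsTwoLocal (centralizer ({y} : Set G)) := by
  have : Fact (Nat.Prime 2) := ⟨Nat.prime_two⟩
  have hy2 : y ^ 2 = 1 := by rw [pow_two]; exact h2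
  refine ⟨zpowers y, Cfsg.Agent.Lib.Helper22.isPGroup_zpowers hy2, ?_, ?_⟩
  · intro h
    exact h1 (zpowers_eq_bot.mp h)
  · have hmem : ∀ x ∈ zpowers y, x = 1 ∨ x = y := by
      intro x hx
      obtain ⟨k, rfl⟩ := mem_zpowers_iff.mp hx
      rcases Int.even_or_odd' k with ⟨m, rfl | rfl⟩
      · left
        rw [zpow_mul, zpow_ofNat, hy2, one_zpow]
      · right
        rw [zpow_add, zpow_mul, zpow_ofNat, hy2, one_zpow, one_mul, zpow_one]
    apply le_antisymm
    · intro g hg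
      rw [mem_centralizer_singleton_iff] at hg
      rw [mem_normalizer_iff]
      intro x
      have hc : ∀ x ∈ zpowers y, g * x * g⁻¹ = x := by
        intro x hx
        rcases hmem x hx with rfl | rfl
        · simp
        · rw [hg]; simp
      constructor
      · intro hx
        rw [hc x hx]; exact hx
      · intro hx
        have h3 := hc _ hx
        have h4 : g * x * g⁻¹ = x := by
          have : g * (g * x * g⁻¹) * g⁻¹ = g * x * g⁻¹ := h3
          have h5 := congrArg (fun t => g⁻¹ * t * g) this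
          simpa [mul_assoc] using h5
        rw [← h4]; exact hx
    · intro g hg
      rw [mem_centralizer_singleton_iff]
      rw [mem_normalizer_iff] at hg
      have h3 := (hg y).mp (mem_zpowers y)
      rcases hmem _ h3 with h4 | h4
      · exfalso
        apply h1
        have h5 := congrArg (fun t => g⁻¹ * t * g) h4
        simpa [mul_assoc] using h5
      · have h5 := congrArg (fun t => t * g) h4
        simpa [mul_assoc] using h5

theorem isTwoLocal_conjS {L : Subgroup G} (hL : Cfsg.IsTwoLocal L) (g : G) :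
    Cfsg.IsTwoLocal (conjS g L) := by
  obtain ⟨R, hR2, hR1, rfl⟩ := hL
  refine ⟨conjS g R, hR2.map _, ?_, ?_⟩
  · intro h
    apply hR1
    have := Cfsg.Agent.Lib.Helper48.conjS_inv_conjS g R
    rw [h] at this
    rw [← this]
    exact Subgroup.map_bot _
  · exact (Cfsg.Agent.Lib.Helper62.normalizer_map_conj g R).symm

theorem isMaximalTwoLocal_conjS {L : Subgroup G} (hL : Cfsg.IsMaximalTwoLocal L) (g : G) :
    Cfsg.IsMaximalTwoLocal (conjS g L) := by
  refine ⟨isTwoLocal_conjS hL.1 g, ?_⟩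
  intro N hN hle
  have h1 := hL.2 (conjS g⁻¹ N) (isTwoLocal_conjS hN g⁻¹)
    (Cfsg.Agent.Lib.Helper48.conjS_le_iff.mp hle)
  rw [← h1, Cfsg.Agent.Lib.Helper48.conjS_conjS_inv]

/-- `N(Ω₁Z(S)) ≤ N(S)`. -/
theorem normalizer_OZ_le (zn : ZN G) (S : Sylow 2 G) :
    normalizer (Cfsg.omegaCenterOf (S : Subgroup G) : Set G) ≤ normalizer ((S : Subgroup G) : Set G) := by
  have : Fact (Nat.Prime 2) := ⟨Nat.prime_two⟩
  intro n hn
  have h1 : Cfsg.omegaCenterOf (conjS n (S : Subgroup G)) = Cfsg.omegaCenterOf (S : Subgroup G) := by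
    rw [Cfsg.Agent.Lib.Helper48.omegaCenterOf_conjS]
    exact Cfsg.Agent.Lib.Helper22.conjS_eq_of_mem_normalizer hn
  have h2 : conjS n (S : Subgroup G) ≤ centralizer (Cfsg.omegaCenterOf (S : Subgroup G) : Set G) := by
    rw [← h1]
    rw [le_centralizer_iff]
    exact (Cfsg.Agent.Lib.Helper48.omegaCenterOf_le _).trans inf_le_right
  have h3 : conjS n (S : Subgroup G) ≤ (S : Subgroup G) :=
    (Cfsg.Agent.Lib.Helper47.isSylowIn_of_sylow S le_normalizer).le_of_normal le_rfl
      (S.2.map _) (h2.trans (zn.hZ S))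
  exact Cfsg.Agent.Lib.Helper50.mem_normalizer_of_map_conj_le h3

theorem not_le_normalizer_J {T K : Subgroup G} (hT : IsPGroup 2 T) (hK : Cfsg.IsJComponent T K) :
    ¬ K ≤ normalizer (J T : Set G) := by
  intro h
  apply Cfsg.Agent.Lib.Helper48.not_isPGroup_of_isJComponent hK
  have h1 : K ≤ J T := by
    conv_lhs => rw [← hK.2.1]
    exact Cfsg.Agent.Lib.Helper47.commutator_le_right_of_le_normalizer h
  exact (hT.to_le (Cfsg.Agent.Lib.Helper48.thompsonSubgroupOf_le' 2 T)).to_le h1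

end Cfsg.Agent.Lib.Helper55.KS
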