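import Cfsg.Agent.Lib.Helper55.KS.Defs

set_option autoImplicit false

namespace Cfsg.Agent.Lib.Helper55.KS

open Subgroup
open Cfsg.Agent.Lib.Helper22 (conjS)
open Cfsg.Agent.Lib.Helper47 (IsSylowIn)
open Cfsg.Agent.Lib.Helper48 (ZN MS MEA)

universe u

variable {G : Type u} [Group G] [Finite G]

theorem mem_OZ {T : Subgroup G} {x : G} (h1 : x ∈ T) (h2 : ∀ t ∈ T, t * x = x * t)
    (h3 : x * x = 1) : x ∈ Cfsg.omegaCenterOf T := by
  refine Subgroup.subset_closure ⟨mem_inf.mpr ⟨h1, ?_⟩, by rw [pow_two]; exact h3⟩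
  rw [mem_centralizer_iff]
  exact h2

theorem OZ_sq {T : Subgroup G} {x : G} (h : x ∈ Cfsg.omegaCenterOf T) : x * x = 1 := by
  have h1 := (Cfsg.Agent.Lib.Helper10.isEA_iff.mp
    (Cfsg.Agent.Lib.Helper48.isEA_omegaCenterOf T)).2 x h
  rwa [pow_two] at h1

theorem OZ_comm {T : Subgroup G} {x t : G} (h : x ∈ Cfsg.omegaCenterOf T) (ht : t ∈ T) :
    t * x = x * t :=
  mem_centralizer_iff.mp (mem_inf.mp (Cfsg.Agent.Lib.Helper48.omegaCenterOf_le T h)).2 t ht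

/-- `Ω₁Z(T) ≤ Ω₁Z(J(T))`. -/
theorem OZ_le_Z0 {T : Subgroup G} (hT : IsPGroup 2 T) : Cfsg.omegaCenterOf T ≤ Z0 T := by
  intro x hx
  have hxT : x ∈ T := (mem_inf.mp (Cfsg.Agent.Lib.Helper48.omegaCenterOf_le T hx)).1
  have hx2 : x ^ 2 = 1 := by rw [pow_two]; exact OZ_sq hx
  obtain ⟨A, hA⟩ := Cfsg.Agent.Lib.Helper48.exists_mea T
  have hxA : x ∈ A := by
    apply hA.mem_of_commute hxT hx2
    rw [mem_centralizer_iff]
    intro a ha
    exact OZ_comm hx (hA.1 ha)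
  apply Cfsg.Agent.Lib.Helper48.JA.mem_Z0 (hA.le_J hxA) _ hx2
  rw [mem_centralizer_iff]
  intro a ha
  exact OZ_comm hx (Cfsg.Agent.Lib.Helper48.thompsonSubgroupOf_le' 2 T ha)

/-- (F1) `Ω₁Z(S) ≤ Ω₁Z(T)` for `T ≤ S` Sylow in some `L ∈ ℒ(T)`. -/
theorem OZ_sylow_le (S : Sylow 2 G) {T L : Subgroup G} (hTS : T ≤ (S : Subgroup G))
    (hLT : L ∈ Cfsg.jOvergroups T) :
    Cfsg.omegaCenterOf (S : Subgroup G) ≤ Cfsg.omegaCenterOf T := by
  have : Fact (Nat.Prime 2) := ⟨Nat.prime_two⟩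
  intro z hz
  have hQT : Cfsg.pCoreOf 2 L ≤ T :=
    Cfsg.Agent.Lib.Helper47.pCoreOf_le_of_isSylowIn (Cfsg.Agent.Lib.Helper48.isSylowIn_of_two hLT.1)
  have hzT : z ∈ T := by
    apply hQT
    apply hLT.2.2
    rw [mem_centralizer_iff]
    intro q hq
    exact OZ_comm hz (hTS (hQT hq))
  exact mem_OZ hzT (fun t ht => OZ_comm hz (hTS ht)) (OZ_sq hz)

theorem OZ_ne_bot {T : Subgroup G} (hT : IsPGroup 2 T) (hT1 : T ≠ ⊥) :
    Cfsg.omegaCenterOf T ≠ ⊥ := by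
  have : Fact (Nat.Prime 2) := ⟨Nat.prime_two⟩
  haveI : Nontrivial ↥T := (Subgroup.nontrivial_iff_ne_bot T).mpr hT1
  haveI := hT.center_nontrivial
  have hc : IsPGroup 2 (Subgroup.center ↥T) := hT.to_subgroup _
  obtain ⟨n, hn⟩ := IsPGroup.iff_card.mp hc
  have hn0 : n ≠ 0 := by
    rintro rfl
    rw [pow_zero] at hn
    have := Finite.one_lt_card (α := Subgroup.center ↥T)
    omega
  have hd : 2 ∣ Nat.card (Subgroup.center ↥T) := by
    rw [hn]; exact dvd_pow_self 2 hn0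
  obtain ⟨x, hx⟩ := exists_prime_orderOf_dvd_card' 2 hd
  intro hbot
  have hx1 : ((x : ↥T) : G) ∈ Cfsg.omegaCenterOf T := by
    apply mem_OZ (x : ↥T).2
    · intro t ht
      have := Subgroup.mem_center_iff.mp x.2 ⟨t, ht⟩
      exact congrArg Subtype.val this
    · have h2 : x ^ 2 = 1 := by rw [← hx]; exact pow_orderOf_eq_one x
      have h3 := congrArg (fun y : Subgroup.center ↥T => ((y : ↥T) : G)) h2
      simpa [pow_two] using h3
  rw [hbot, mem_bot] at hx1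
  have hx2 : x = 1 := by
    apply Subtype.ext; apply Subtype.ext; exact hx1
  rw [hx2, orderOf_one] at hx
  omega

theorem exists_sq_mem {T S : Subgroup G} (hS : IsPGroup 2 S) (hTS : T < S) :
    ∃ s ∈ S, s ∈ normalizer (T : Set G) ∧ s ∉ T ∧ s * s ∈ T := by
  have : Fact (Nat.Prime 2) := ⟨Nat.prime_two⟩
  obtain ⟨x, hxS, hxN, hxT⟩ := Cfsg.Agent.Lib.Helper22.exists_mem_normalizer_not_mem hS hTS
  have hex : ∃ k : ℕ, x ^ 2 ^ k ∈ T := by
    obtain ⟨k, hk⟩ := hS ⟨x, hxS⟩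
    refine ⟨k, ?_⟩
    have := congrArg Subtype.val hk
    simp only [SubmonoidClass.coe_pow, OneMemClass.coe_one] at this
    rw [this]; exact T.one_mem
  classical
  have hk0 : Nat.find hex ≠ 0 := by
    intro h0
    have := Nat.find_spec hex
    rw [h0] at this
    simp at this
    exact hxT this
  obtain ⟨m, hm⟩ := Nat.exists_eq_succ_of_ne_zero hk0
  refine ⟨x ^ 2 ^ m, S.pow_mem hxS _, (normalizer (T : Set G)).pow_mem hxN _, ?_, ?_⟩
  · exact Nat.find_min hex (by omega)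
  · have := Nat.find_spec hex
    rw [hm, Nat.succ_eq_add_one, pow_succ, pow_mul, pow_two] at this
    exact this

/-- (F2) every 2-local containing `T` and some `x ∈ N_M(T) - T` with `⟨T, x⟩` a 2-group is in `M`. -/
theorem twoLocal_le_of_lt {M T N : Subgroup G} (hT : T ∈ Cfsg.maxStraddlingTwoSubgroups M) {x : G}
    (hxM : x ∈ M) (hxT : x ∉ T) (h2 : IsPGroup 2 (T ⊔ zpowers x : Subgroup G))
    (hN : Cfsg.IsTwoLocal N) (hTN : T ≤ N) (hx : x ∈ N) : N ≤ M := by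
  by_contra hcon
  obtain ⟨hT2, hT1, hTM, -⟩ := hT.1
  have hmem : T ⊔ zpowers x ∈ Cfsg.straddlingTwoSubgroups M := by
    refine ⟨h2, ?_, sup_le hTM (zpowers_le.mpr hxM), N, hN, sup_le hTN (zpowers_le.mpr hx), hcon⟩
    intro h
    apply hT1
    rw [eq_bot_iff, ← h]
    exact le_sup_left
  have h1 := (Cfsg.Agent.Lib.Helper48.max_step hT hmem
    ((Cfsg.Agent.Lib.Helper48.thompsonSubgroupOf_le' 2 T).trans le_sup_left)).2
  have h3 : T = T ⊔ zpowers x := eq_of_le_of_card_ge le_sup_left h1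
  apply hxT
  rw [h3]
  exact le_sup_right (a := T) (mem_zpowers x)

end Cfsg.Agent.Lib.Helper55.KS
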