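import Cfsg.Agent.Lib.Helper55.KS.Defs

set_option autoImplicit false

namespace Cfsg.Agent.Lib.Helper55.KS

open Subgroup
open Cfsg.Agent.Lib.Helper22 (conjS)
open Cfsg.Agent.Lib.Helper47 (IsSylowIn)
open Cfsg.Agent.Lib.Helper48 (ZN MS MEA)

universe u

variable {G : Type u} [Group G] [Finite G]

theorem A1_card_mul_le {A B Z₀ : Subgroup G} (hA : A ≤ Z₀) (hB : B ≤ Z₀) (hdisj : A ⊓ B = ⊥) :
    Nat.card A * Nat.card B ≤ Nat.card Z₀ := by
  rw [← Nat.card_prod]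
  apply Nat.card_le_card_of_injective
    (fun ab : A × B => (⟨ab.1 * ab.2, Z₀.mul_mem (hA ab.1.2) (hB ab.2.2)⟩ : Z₀))
  rintro ⟨a, b⟩ ⟨a', b'⟩ h
  have h1 : (a : G) * b = a' * b' := congrArg Subtype.val h
  have h2 : (a' : G)⁻¹ * a = b' * (b : G)⁻¹ := by
    calc (a' : G)⁻¹ * a = (a' : G)⁻¹ * (a * b) * (b : G)⁻¹ := by group
      _ = (a' : G)⁻¹ * (a' * b') * (b : G)⁻¹ := by rw [h1]
      _ = _ := by group
  have h3 : (a' : G)⁻¹ * a ∈ A ⊓ B :=
    ⟨A.mul_mem (A.inv_mem a'.2) a.2, by rw [h2]; exact B.mul_mem b'.2 (B.inv_mem b.2)⟩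
  rw [hdisj, mem_bot] at h3
  have h4 : (a : G) = a' := (inv_mul_eq_one.mp h3).symm
  have h5 : (b : G) = b' := by rw [h4] at h1; exact mul_left_cancel h1
  exact Prod.ext (Subtype.ext h4) (Subtype.ext h5)

theorem A1_four {Z₀ : Subgroup G} {a b c d : G} (hab : a ≠ b) (hac : a ≠ c) (had : a ≠ d)
    (hbc : b ≠ c) (hbd : b ≠ d) (hcd : c ≠ d)
    (ha : a ∈ Z₀) (hb : b ∈ Z₀) (hc : c ∈ Z₀) (hd : d ∈ Z₀) (hcard : Nat.card Z₀ ≤ 4) :
    Nat.card Z₀ = 4 ∧ ∀ x ∈ Z₀, x = a ∨ x = b ∨ x = c ∨ x = d := by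
  classical
  have hF : ({a, b, c, d} : Finset G).card = 4 := by
    rw [Finset.card_insert_of_notMem (by simp [hab, hac, had]),
      Finset.card_insert_of_notMem (by simp [hbc, hbd]),
      Finset.card_insert_of_notMem (by simp [hcd]), Finset.card_singleton]
  have hsub : (({a, b, c, d} : Finset G) : Set G) ⊆ (Z₀ : Set G) := by
    intro x hx
    simp only [Finset.coe_insert, Finset.coe_singleton, Set.mem_insert_iff,
      Set.mem_singleton_iff] at hx
    rcases hx with rfl | rfl | rfl | rfl <;> assumption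
  have hN : Nat.card Z₀ = (Z₀ : Set G).ncard := Nat.card_coe_set_eq _
  have hc' : (Z₀ : Set G).ncard ≤ (({a, b, c, d} : Finset G) : Set G).ncard := by
    rw [Set.ncard_coe_finset, hF, ← hN]; exact hcard
  have heq := Set.eq_of_subset_of_ncard_le hsub hc' (Set.toFinite _)
  constructor
  · rw [hN, ← heq, Set.ncard_coe_finset, hF]
  · intro x hx
    have : x ∈ (({a, b, c, d} : Finset G) : Set G) := by rw [heq]; exact hx
    simpa using this

/-- abstract form of S2951 for `T < S`. -/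
theorem abs_TltS {Z₀ Y Z N L T : Subgroup G} {s : G}
    (hexp : ∀ a ∈ Z₀, a * a = 1) (hcomm : ∀ a ∈ Z₀, ∀ b ∈ Z₀, a * b = b * a)
    (hY : Y ≤ Z₀) (hcard : Nat.card Z₀ ≤ 2 * Nat.card Y)
    (hN : ∀ g ∈ N, conjS g Z₀ = Z₀)
    (hF4 : ∀ g ∈ N, ∀ y ∈ Y, y ≠ 1 → g * y * g⁻¹ ∈ Y → g ∈ L)
    (hTN : T ≤ N) (hTL : T ≤ L) (hsN : s ∈ N) (hsL : s ∉ L)
    (hZ : Z ≤ Z₀) (hZ1 : Z ≠ ⊥) (hsZ : ∀ z ∈ Z, s * z = z * s)
    (hTZ : ∀ t ∈ T, ∀ z ∈ Z, t * z = z * t) :
    (Z = Z₀ ∧ Nat.card Z₀ = 2) ∨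
    (Nat.card Z₀ = 4 ∧ (∀ t ∈ T, ∀ a ∈ Z₀, t * a = a * t) ∧
      ∃ y ∈ Y, y ≠ 1 ∧ s * y * s⁻¹ ≠ y ∧ y * (s * y * s⁻¹) ∈ Z ∧
        (∀ a ∈ Z₀, a = 1 ∨ a = y ∨ a = s * y * s⁻¹ ∨ a = y * (s * y * s⁻¹)) ∧
        (∀ a ∈ Z, a = 1 ∨ a = y * (s * y * s⁻¹))) := by
  classical
  have hconjZ : ∀ g ∈ N, ∀ a ∈ Z₀, g * a * g⁻¹ ∈ Z₀ := by
    intro g hg a ha
    have := Cfsg.Agent.Lib.Helper22.conjS_mem (g := g) ha
    rwa [hN g hg] at this
  -- (1)
  have hnotY : ∀ y ∈ Y, y ≠ 1 → s * y * s⁻¹ ∉ Y := fun y hy hy1 h => hsL (hF4 s hsN y hy hy1 h)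
  have hdisj : Y ⊓ conjS s Y = ⊥ := by
    rw [eq_bot_iff]
    rintro u ⟨hu, hu'⟩
    rw [mem_bot]
    by_contra hu1
    have hu'' : s⁻¹ * u * s ∈ Y := Cfsg.Agent.Lib.Helper22.mem_conjS.mp hu'
    apply hnotY _ hu''
    · intro h
      apply hu1
      calc u = s * (s⁻¹ * u * s) * s⁻¹ := by group
        _ = 1 := by rw [h]; group
    · have : s * (s⁻¹ * u * s) * s⁻¹ = u := by group
      rw [this]; exact hu
  have hsY : conjS s Y ≤ Z₀ := by
    rintro _ ⟨y, hy, rfl⟩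
    exact hconjZ s hsN y (hY hy)
  -- (2)
  have hcc : Nat.card (conjS s Y) = Nat.card Y :=
    Subgroup.card_map_of_injective (MulAut.conj s).injective
  have hmul := A1_card_mul_le hY hsY hdisj
  rw [hcc] at hmul
  have hYpos : 0 < Nat.card Y := Nat.card_pos
  have hY2 : Nat.card Y ≤ 2 := by
    have : Nat.card Y * Nat.card Y ≤ 2 * Nat.card Y := hmul.trans hcard
    exact Nat.le_of_mul_le_mul_right this hYpos
  have hZ2 : 2 ≤ Nat.card Z := (Subgroup.one_lt_card_iff_ne_bot Z).mpr hZ1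
  have hZle : Nat.card Z ≤ Nat.card Z₀ := Subgroup.card_le_of_le hZ
  by_cases hYb : Y = ⊥
  · left
    have h1 : Nat.card Y = 1 := by rw [hYb]; exact Subgroup.card_bot
    rw [h1] at hcard
    exact ⟨Subgroup.eq_of_le_of_card_ge hZ (by omega), by omega⟩
  · right
    obtain ⟨y, hy, hy1⟩ := (Subgroup.ne_bot_iff_exists_ne_one).mp hYb |>.imp
      (fun a h => h) |> fun ⟨a, h⟩ => (⟨(a : G), a.2, fun e => h (Subtype.ext e)⟩ :
        ∃ y : G, y ∈ Y ∧ y ≠ 1)
    obtain ⟨y', hy'def⟩ : ∃ y' : G, y' = s * y * s⁻¹ := ⟨_, rfl⟩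
    have hyZ : y ∈ Z₀ := hY hy
    have hy'Z : y' ∈ Z₀ := by rw [hy'def]; exact hconjZ s hsN y hyZ
    have hy'Y : y' ∉ Y := by rw [hy'def]; exact hnotY y hy hy1
    have hy'1 : y' ≠ 1 := fun h => hy'Y (h ▸ Y.one_mem)
    have hy'y : y' ≠ y := fun h => hy'Y (h ▸ hy)
    have hyy : y * y = 1 := hexp y hyZ
    have hz1 : y * y' ≠ 1 := by
      intro h
      apply hy'y
      apply mul_left_cancel (a := y)
      rw [h, hyy]
    have hzy : y * y' ≠ y := by
      intro h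
      exact hy'1 (mul_eq_left.mp h)
    have hzy' : y * y' ≠ y' := by
      intro h
      exact hy1 (mul_eq_right.mp h)
    obtain ⟨hc4, hall⟩ := A1_four (Z₀ := Z₀) (a := 1) (b := y) (c := y') (d := y * y')
      hy1.symm hy'1.symm hz1.symm hy'y.symm hzy.symm hzy'.symm Z₀.one_mem hyZ hy'Z
      (Z₀.mul_mem hyZ hy'Z) (by omega)
    -- (5)
    have hyZ' : y ∉ Z := by
      intro h
      apply hy'y
      rw [hy'def, hsZ y h, mul_assoc, mul_inv_cancel, mul_one]
    have hy'Z' : y' ∉ Z := by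
      intro h
      apply hy'y
      have h1 := hsZ y' h
      have h2 : s * y' * s⁻¹ = y' := by rw [h1, mul_assoc, mul_inv_cancel, mul_one]
      have h3 : s * y' * s⁻¹ = s * y * s⁻¹ := by rw [h2, hy'def]
      exact mul_left_cancel (mul_right_cancel h3)
    have hZall : ∀ a ∈ Z, a = 1 ∨ a = y * y' := by
      intro a ha
      rcases hall a (hZ ha) with h | h | h | h
      · exact Or.inl h
      · exact absurd (h ▸ ha) hyZ'
      · exact absurd (h ▸ ha) hy'Z'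
      · exact Or.inr h
    have hzZ : y * y' ∈ Z := by
      obtain ⟨z, hz⟩ := (Subgroup.ne_bot_iff_exists_ne_one).mp hZ1
      rcases hZall z z.2 with h | h
      · exact absurd (Subtype.ext h) hz
      · rw [← h]; exact z.2
    -- (6)
    have hTy : ∀ t ∈ T, t * y = y * t := by
      intro t ht
      have hfix : t * y * t⁻¹ = y := by
        rcases hall _ (hconjZ t (hTN ht) y hyZ) with h | h | h | h
        · exfalso
          apply hy1
          calc y = t⁻¹ * (t * y * t⁻¹) * t := by group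
            _ = 1 := by rw [h]; group
        · exact h
        · exfalso
          have h1 : (s⁻¹ * t) * y * (s⁻¹ * t)⁻¹ = y := by
            calc (s⁻¹ * t) * y * (s⁻¹ * t)⁻¹ = s⁻¹ * (t * y * t⁻¹) * s := by group
              _ = s⁻¹ * (s * y * s⁻¹) * s := by rw [h, hy'def]
              _ = y := by group
          have h2 : s⁻¹ * t ∈ L :=
            hF4 _ (N.mul_mem (N.inv_mem hsN) (hTN ht)) y hy hy1 (by rw [h1]; exact hy)
          have h3 : s⁻¹ ∈ L := by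
            have := L.mul_mem h2 (L.inv_mem (hTL ht))
            simpa [mul_assoc] using this
          exact hsL (by simpa using L.inv_mem h3)
        · exfalso
          have h1 : t * (y * y') * t⁻¹ = y * y' := by
            rw [hTZ t ht _ hzZ, mul_assoc, mul_inv_cancel, mul_one]
          have h2 : t * y * t⁻¹ = t * (y * y') * t⁻¹ := by rw [h, h1]
          exact hzy (mul_left_cancel (mul_right_cancel h2)).symm
      calc t * y = (t * y * t⁻¹) * t := by group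
        _ = y * t := by rw [hfix]
    have hTy' : ∀ t ∈ T, t * y' = y' * t := by
      intro t ht
      have e : y' = y * (y * y') := by rw [← mul_assoc, hyy, one_mul]
      have h1 := hTy t ht
      have h2 := hTZ t ht _ hzZ
      rw [e, ← mul_assoc t, h1, mul_assoc y t, h2, ← mul_assoc]
    refine ⟨hc4, ?_, y, hy, hy1, ?_, ?_, ?_, ?_⟩
    · intro t ht a ha
      rcases hall a ha with h | h | h | h
      · rw [h]; simp
      · rw [h]; exact hTy t ht
      · rw [h]; exact hTy' t ht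
      · rw [h]; exact hTZ t ht _ hzZ
    · rw [← hy'def]; exact hy'y
    · rw [← hy'def]; exact hzZ
    · rw [← hy'def]; exact hall
    · rw [← hy'def]; exact hZall

end Cfsg.Agent.Lib.Helper55.KS
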