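import Cfsg.Agent.Lib.Helper55.KS.Defs

set_option autoImplicit false

namespace Cfsg.Agent.Lib.Helper55.KS

open Subgroup
open Cfsg.Agent.Lib.Helper22 (conjS)
open Cfsg.Agent.Lib.Helper47 (IsSylowIn)
open Cfsg.Agent.Lib.Helper48 (ZN MS MEA)

universe u

variable {G : Type u} [Group G] [Finite G]

/-- abstract form of the index 2 statement of S2951 (c). -/
theorem abs_index_two {Z₀ L M : Subgroup G} {s y : G}
    (hexp : ∀ a ∈ Z₀, a * a = 1) (hcomm : ∀ a ∈ Z₀, ∀ b ∈ Z₀, a * b = b * a)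
    (hy1 : y ≠ 1) (hsy : s * y * s⁻¹ ≠ y)
    (hyZ : y ∈ Z₀) (hsN : s ∈ normalizer (Z₀ : Set G))
    (hall : ∀ a ∈ Z₀, a = 1 ∨ a = y ∨ a = s * y * s⁻¹ ∨ a = y * (s * y * s⁻¹))
    (hNM : normalizer (Z₀ : Set G) ≤ M)
    (hzM : centralizer ({y * (s * y * s⁻¹)} : Set G) ≤ M)
    (hyM : ¬ centralizer ({y} : Set G) ≤ M) (hyL : centralizer ({y} : Set G) ≤ L) :
    (L ⊓ centralizer (Z₀ : Set G)).relIndex (normalizer (Z₀ : Set G)) = 2 := by
  obtain ⟨y', hy'⟩ : ∃ y', y' = s * y * s⁻¹ := ⟨_, rfl⟩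
  obtain ⟨z, hz⟩ : ∃ z, z = y * y' := ⟨_, rfl⟩
  rw [← hy'] at hsy hall hzM
  rw [← hz] at hzM
  simp only [← hz] at hall
  set N := normalizer (Z₀ : Set G) with hN
  have hy'Z : y' ∈ Z₀ := by rw [hy']; exact (mem_normalizer_iff.mp hsN y).mp hyZ
  have hzZ : z ∈ Z₀ := by rw [hz]; exact Z₀.mul_mem hyZ hy'Z
  have hy'1 : y' ≠ 1 := by
    intro h
    apply hy1
    have : y = s⁻¹ * y' * s := by rw [hy']; group
    rw [this, h]; group
  have hyy : y * y = 1 := hexp y hyZ
  have hz1 : z ≠ 1 := by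
    intro h
    apply hsy
    rw [hz] at h
    exact mul_left_cancel (h.trans hyy.symm)
  have hzy : z ≠ y := by
    intro h
    apply hy'1
    rw [hz] at h
    exact mul_left_cancel (h.trans (mul_one y).symm)
  have hyz : y * z = y' := by rw [hz, ← mul_assoc, hyy, one_mul]
  have h1a : ∀ n ∈ N, n * z * n⁻¹ ≠ y := by
    intro n hn h
    apply hyM
    intro c hc
    have hcy : y * c = c * y := (mem_centralizer_iff.mp hc) y rfl
    have hnM : n ∈ M := hNM hn
    have h2 : n⁻¹ * c * n ∈ centralizer ({z} : Set G) := by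
      rw [mem_centralizer_iff]
      intro w hw
      rw [Set.mem_singleton_iff] at hw
      rw [hw]
      have hz' : z = n⁻¹ * y * n := by rw [← h]; group
      rw [hz']
      calc n⁻¹ * y * n * (n⁻¹ * c * n) = n⁻¹ * (y * c) * n := by group
        _ = n⁻¹ * (c * y) * n := by rw [hcy]
        _ = n⁻¹ * c * n * (n⁻¹ * y * n) := by group
    have h3 := hzM h2
    have : c = n * (n⁻¹ * c * n) * n⁻¹ := by group
    rw [this]
    exact M.mul_mem (M.mul_mem hnM h3) (M.inv_mem hnM)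
  have h1 : ∀ n ∈ N, n * z * n⁻¹ = z := by
    intro n hn
    have hmem : n * z * n⁻¹ ∈ Z₀ := (mem_normalizer_iff.mp hn z).mp hzZ
    rcases hall _ hmem with h | h | h | h
    · exfalso
      apply hz1
      have : z = n⁻¹ * (n * z * n⁻¹) * n := by group
      rw [this, h]; group
    · exact absurd h (h1a n hn)
    · exfalso
      refine h1a (s⁻¹ * n) (N.mul_mem (N.inv_mem hsN) hn) ?_
      calc s⁻¹ * n * z * (s⁻¹ * n)⁻¹ = s⁻¹ * (n * z * n⁻¹) * s := by group
        _ = s⁻¹ * (s * y * s⁻¹) * s := by rw [h, hy']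
        _ = y := by group
    · exact h
  have h2 : ∀ n ∈ N, n * y * n⁻¹ = y → n ∈ centralizer (Z₀ : Set G) := by
    intro n hn h
    rw [mem_centralizer_iff]
    intro a ha
    have hzc := h1 n hn
    have key : n * a * n⁻¹ = a := by
      rcases hall a ha with h' | h' | h' | h'
      · rw [h']; group
      · rw [h']; exact h
      · rw [h', ← hyz]
        calc n * (y * z) * n⁻¹ = (n * y * n⁻¹) * (n * z * n⁻¹) := by group
          _ = y * z := by rw [h, hzc]
      · rw [h']; exact hzc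
    calc a * n = (n * a * n⁻¹) * n := by rw [key]
      _ = n * a := by group
  have hCL : centralizer (Z₀ : Set G) ≤ L := by
    intro g hg
    apply hyL
    rw [mem_centralizer_iff]
    intro w hw
    rw [Set.mem_singleton_iff] at hw
    rw [hw]
    exact (mem_centralizer_iff.mp hg) y hyZ
  rw [relIndex_eq_two_iff_exists_notMem_and']
  refine ⟨s⁻¹, N.inv_mem hsN, ?_, ?_⟩
  · intro h
    have h3 := (mem_inf.mp h).2
    have h4 := (mem_centralizer_iff.mp h3) y hyZ
    apply hsy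
    rw [hy']
    calc s * y * s⁻¹ = s * (y * s⁻¹) := by group
      _ = s * (s⁻¹ * y) := by rw [h4]
      _ = y := by group
  · intro b hb
    have hmem : b * y * b⁻¹ ∈ Z₀ := (mem_normalizer_iff.mp hb y).mp hyZ
    rcases hall _ hmem with h | h | h | h
    · exfalso
      apply hy1
      have : y = b⁻¹ * (b * y * b⁻¹) * b := by group
      rw [this, h]; group
    · right
      exact mem_inf.mpr ⟨hCL (h2 b hb h), h2 b hb h⟩
    · left
      have h5 := h2 (s⁻¹ * b) (N.mul_mem (N.inv_mem hsN) hb) (by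
        calc s⁻¹ * b * y * (s⁻¹ * b)⁻¹ = s⁻¹ * (b * y * b⁻¹) * s := by group
          _ = s⁻¹ * (s * y * s⁻¹) * s := by rw [h, hy']
          _ = y := by group)
      exact mem_inf.mpr ⟨hCL h5, h5⟩
    · exfalso
      apply hzy
      have h6 := h1 b hb
      have h7 : b * y * b⁻¹ = b * z * b⁻¹ := h.trans h6.symm
      exact (mul_left_cancel (mul_right_cancel h7)).symm

/-- an element whose centralizer lies in a subgroup with small Sylow 2-subgroups is not conjugate
into `Ω₁Z(S)`. -/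
theorem not_conj_of_cent_le (S : Sylow 2 G) {T L : Subgroup G} (hs : IsSylowIn 2 T L)
    (hlt : Nat.card T < Nat.card (S : Subgroup G)) {u : G} (hu : centralizer ({u} : Set G) ≤ L)
    (g : G) : g * u * g⁻¹ ∉ Cfsg.omegaCenterOf (S : Subgroup G) := by
  haveI : Fact (Nat.Prime 2) := ⟨Nat.prime_two⟩
  intro h
  have h1 := (mem_inf.mp (Cfsg.Agent.Lib.Helper48.omegaCenterOf_le _ h)).2
  have hle : conjS g⁻¹ (S : Subgroup G) ≤ centralizer ({u} : Set G) := by
    rintro _ ⟨x, hx, rfl⟩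
    rw [mem_centralizer_iff]
    intro w hw
    rw [Set.mem_singleton_iff] at hw
    rw [hw]
    have h2 : x * (g * u * g⁻¹) = g * u * g⁻¹ * x := (mem_centralizer_iff.mp h1) x hx
    show u * (g⁻¹ * x * g⁻¹⁻¹) = g⁻¹ * x * g⁻¹⁻¹ * u
    calc u * (g⁻¹ * x * g⁻¹⁻¹) = g⁻¹ * (g * u * g⁻¹ * x) * g := by group
      _ = g⁻¹ * (x * (g * u * g⁻¹)) * g := by rw [h2]
      _ = g⁻¹ * x * g⁻¹⁻¹ * u := by group
  have hp : IsPGroup 2 (conjS g⁻¹ (S : Subgroup G)) := S.isPGroup'.map _
  obtain ⟨l, -, hl⟩ := hs.exists_conj_ge hp (hle.trans hu)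
  have c1 : Nat.card (conjS g⁻¹ (S : Subgroup G)) = Nat.card (S : Subgroup G) :=
    card_map_of_injective (MulAut.conj g⁻¹).injective
  have c2 : Nat.card (Cfsg.Agent.Lib.Helper47.cj l T) = Nat.card T :=
    card_map_of_injective (MulAut.conj l).injective
  have c3 := card_le_of_le hl
  omega

end Cfsg.Agent.Lib.Helper55.KS
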