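import Cfsg.Agent.Lib.Helper55.KS.Defs
import Cfsg.Agent.Lib.Helper55.KS.A1

set_option autoImplicit false

namespace Cfsg.Agent.Lib.Helper55.KS

open Subgroup
open Cfsg.Agent.Lib.Helper22 (conjS)
open Cfsg.Agent.Lib.Helper47 (IsSylowIn)
open Cfsg.Agent.Lib.Helper48 (ZN MS MEA)

universe u

variable {G : Type u} [Group G] [Finite G]

/-- abstract form of S2951 for `T = S` (two components with different maximal 2-locals). -/
theorem abs_TeqS {Z₀ Y Y' Z S : Subgroup G}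
    (hexp : ∀ a ∈ Z₀, a * a = 1) (hcomm : ∀ a ∈ Z₀, ∀ b ∈ Z₀, a * b = b * a)
    (hY : Y ≤ Z₀) (hY' : Y' ≤ Z₀) (hcard : Nat.card Z₀ ≤ 2 * Nat.card Y)
    (hcard' : Nat.card Z₀ ≤ 2 * Nat.card Y') (hdisj : Y ⊓ Y' = ⊥)
    (hS : ∀ t ∈ S, conjS t Z₀ = Z₀)
    (hZ : Z ≤ Z₀) (hZ1 : Z ≠ ⊥) (hSZ : ∀ t ∈ S, ∀ z ∈ Z, t * z = z * t)
    (hfix : ∀ a ∈ Z₀, (∀ t ∈ S, t * a = a * t) → a ∈ Z)
    (h1 : ∀ t ∈ S, ∀ y ∈ Y, y ≠ 1 → t * y * t⁻¹ ∉ Y')
    (h2 : ¬ Z ≤ Y) (h2' : ¬ Z ≤ Y') :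
    Z = Z₀ ∧ (Nat.card Z₀ = 2 ∨ Nat.card Z₀ = 4) := by
  classical
  have hconjZ : ∀ g ∈ S, ∀ a ∈ Z₀, g * a * g⁻¹ ∈ Z₀ := by
    intro g hg a ha
    have := Cfsg.Agent.Lib.Helper22.conjS_mem (g := g) ha
    rwa [hS g hg] at this
  have hmul := A1_card_mul_le hY hY' hdisj
  have hYpos : 0 < Nat.card Y := Nat.card_pos
  have hY'pos : 0 < Nat.card Y' := Nat.card_pos
  have hY'2 : Nat.card Y' ≤ 2 := by
    have : Nat.card Y * Nat.card Y' ≤ Nat.card Y * 2 := by
      rw [mul_comm (Nat.card Y) 2]; exact hmul.trans hcard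
    exact Nat.le_of_mul_le_mul_left this hYpos
  have hY2 : Nat.card Y ≤ 2 := by
    have : Nat.card Y * Nat.card Y' ≤ 2 * Nat.card Y' := hmul.trans hcard'
    exact Nat.le_of_mul_le_mul_right this hY'pos
  have hZ2 : 2 ≤ Nat.card Z := (Subgroup.one_lt_card_iff_ne_bot Z).mpr hZ1
  have hZle : Nat.card Z ≤ Nat.card Z₀ := Subgroup.card_le_of_le hZ
  by_cases hYb : Y = ⊥
  · have h1 : Nat.card Y = 1 := by rw [hYb]; exact Subgroup.card_bot
    rw [h1] at hcard
    exact ⟨Subgroup.eq_of_le_of_card_ge hZ (by omega), Or.inl (by omega)⟩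
  by_cases hY'b : Y' = ⊥
  · have h1 : Nat.card Y' = 1 := by rw [hY'b]; exact Subgroup.card_bot
    rw [h1] at hcard'
    exact ⟨Subgroup.eq_of_le_of_card_ge hZ (by omega), Or.inl (by omega)⟩
  obtain ⟨⟨y, hy⟩, hy1'⟩ := (Subgroup.ne_bot_iff_exists_ne_one).mp hYb
  obtain ⟨⟨y', hy'⟩, hy'1'⟩ := (Subgroup.ne_bot_iff_exists_ne_one).mp hY'b
  have hy1 : y ≠ 1 := fun e => hy1' (Subtype.ext e)
  have hy'1 : y' ≠ 1 := fun e => hy'1' (Subtype.ext e)
  have hdis : ∀ a, a ∈ Y → a ∈ Y' → a = 1 := by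
    intro a ha ha'
    have : a ∈ Y ⊓ Y' := ⟨ha, ha'⟩
    rwa [hdisj, mem_bot] at this
  have hyZ : y ∈ Z₀ := hY hy
  have hy'Z : y' ∈ Z₀ := hY' hy'
  have hy'y : y' ≠ y := fun h => hy1 (hdis y hy (h ▸ hy'))
  have hyy : y * y = 1 := hexp y hyZ
  have hy'y' : y' * y' = 1 := hexp y' hy'Z
  have hz1 : y * y' ≠ 1 := by
    intro h
    apply hy'y
    apply mul_left_cancel (a := y)
    rw [h, hyy]
  have hzy : y * y' ≠ y := fun h => hy'1 (mul_eq_left.mp h)
  have hzy' : y * y' ≠ y' := fun h => hy1 (mul_eq_right.mp h)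
  obtain ⟨hc4, hall⟩ := A1_four (Z₀ := Z₀) (a := 1) (b := y) (c := y') (d := y * y')
    hy1.symm hy'1.symm hz1.symm hy'y.symm hzy.symm hzy'.symm Z₀.one_mem hyZ hy'Z
    (Z₀.mul_mem hyZ hy'Z) (by omega)
  have hne1 : ∀ t a : G, a ≠ 1 → t * a * t⁻¹ ≠ 1 := by
    intro t a ha h
    apply ha
    calc a = t⁻¹ * (t * a * t⁻¹) * t := by group
      _ = 1 := by rw [h]; group
  have hTy : ∀ t ∈ S, t * y = y * t := by
    intro t ht
    have hfixy : t * y * t⁻¹ = y := by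
      rcases hall _ (hconjZ t ht y hyZ) with h | h | h | h
      · exact absurd h (hne1 t y hy1)
      · exact h
      · exact absurd (h ▸ hy') (h1 t ht y hy hy1)
      · exfalso
        have hty' : t * y' * t⁻¹ = y' := by
          rcases hall _ (hconjZ t ht y' hy'Z) with h' | h' | h' | h'
          · exact absurd h' (hne1 t y' hy'1)
          · exfalso
            apply h1 t⁻¹ (S.inv_mem ht) y hy hy1
            have : t⁻¹ * y * t⁻¹⁻¹ = y' := by
              rw [← h']; group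
            rw [this]; exact hy'
          · exact h'
          · exfalso
            have : t * y' * t⁻¹ = t * y * t⁻¹ := by rw [h', h]
            exact hy'y (mul_left_cancel (mul_right_cancel this))
        apply h2'
        intro a ha
        have hta : t * a * t⁻¹ = a := by
          rw [hSZ t ht a ha, mul_assoc, mul_inv_cancel, mul_one]
        rcases hall a (hZ ha) with h' | h' | h' | h'
        · rw [h']; exact Y'.one_mem
        · exfalso
          rw [h', h] at hta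
          exact hzy hta
        · rw [h']; exact hy'
        · exfalso
          have e : t * (y * y') * t⁻¹ = (t * y * t⁻¹) * (t * y' * t⁻¹) := by group
          rw [h', e, h, hty', mul_assoc, hy'y', mul_one] at hta
          exact hzy hta.symm
    calc t * y = (t * y * t⁻¹) * t := by group
      _ = y * t := by rw [hfixy]
  have hyZ' : y ∈ Z := hfix y hyZ hTy
  have hy'Z' : y' ∈ Z := by
    obtain ⟨a, ha, haY⟩ := SetLike.not_le_iff_exists.mp h2
    rcases hall a (hZ ha) with h' | h' | h' | h'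
    · exact absurd (h' ▸ Y.one_mem) haY
    · exact absurd (h' ▸ hy) haY
    · rw [← h']; exact ha
    · have e : y' = y * (y * y') := by rw [← mul_assoc, hyy, one_mul]
      rw [e, ← h']
      exact Z.mul_mem hyZ' ha
  refine ⟨le_antisymm hZ ?_, Or.inr hc4⟩
  intro a ha
  rcases hall a ha with h' | h' | h' | h'
  · rw [h']; exact Z.one_mem
  · rw [h']; exact hyZ'
  · rw [h']; exact hy'Z'
  · rw [h']; exact Z.mul_mem hyZ' hy'Z'

end Cfsg.Agent.Lib.Helper55.KS
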