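import Cfsg.Agent.Lib.Helper55.KS.GA
import Cfsg.Agent.Lib.Helper55.KS.GB
import Cfsg.Agent.Lib.Helper22.SupLemmas
import Cfsg.Agent.S2946

/-!
# K-S 12.3: API of the context `Ctx M T K L` (helper55)
-/

set_option autoImplicit false

namespace Cfsg.Agent.Lib.Helper55.KS

open Subgroup
open Cfsg.Agent.Lib.Helper22 (conjS mem_conjS conjS_mem conjS_eq_of_mem_normalizer)
open Cfsg.Agent.Lib.Helper47 (IsSylowIn)
open Cfsg.Agent.Lib.Helper48

universe u

set_option linter.unusedSectionVars false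

variable {G : Type u} [Group G] [Finite G] {M T K L : Subgroup G}

theorem mem_YY {y : G} : y ∈ YY T K ↔ y ∈ Z0 T ∧ ∀ k ∈ K, k * y = y * k := by
  unfold YY
  rw [mem_inf, mem_centralizer_iff]
  rfl

theorem YY_le : YY T K ≤ Z0 T := inf_le_left

theorem le_centralizer_singleton {X : Subgroup G} {y : G} (h : ∀ k ∈ X, k * y = y * k) :
    X ≤ centralizer ({y} : Set G) := by
  intro k hk
  rw [mem_centralizer_iff]
  intro z hz
  rw [Set.mem_singleton_iff.mp hz]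
  exact (h k hk).symm

namespace Ctx

theorem unique (c : Ctx M T K L) {L' : Subgroup G} (hL' : Cfsg.IsMaximalTwoLocal L')
    (hK : K ≤ L') (hJ : J T ≤ L') : L' = L := by
  obtain ⟨L₀, hL₀, hNL₀⟩ := exists_maximalTwoLocal_ge
    (⟨_, isPGroup_wOf c.hK, wOf_ne_bot c.hK, rfl⟩ :
      Cfsg.IsTwoLocal (normalizer (Cfsg.wOf K : Set G)))
  have h1 := c.ms.unique c.hK c.hKM hL₀ hNL₀ hL' (sup_le hK hJ)
  have h2 := c.ms.unique c.hK c.hKM hL₀ hNL₀ c.hL (sup_le c.hKL c.hJL)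
  rw [h1, h2]

theorem le_of_twoLocal (c : Ctx M T K L) {N : Subgroup G} (hN : Cfsg.IsTwoLocal N)
    (hK : K ≤ N) (hJ : J T ≤ N) : N ≤ L := by
  obtain ⟨L', hL', hNL'⟩ := exists_maximalTwoLocal_ge hN
  have := c.unique hL' (hK.trans hNL') (hJ.trans hNL')
  exact this ▸ hNL'

theorem not_le (c : Ctx M T K L) : ¬ L ≤ M := fun h => c.hKM (c.hKL.trans h)

theorem syl (c : Ctx M T K L) (hTL : T ≤ L) : IsSylowIn 2 T L :=
  c.ms.isSylowIn_of_le c.hL.1 c.not_le hTL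

theorem mem (c : Ctx M T K L) (hTL : T ≤ L) : L ∈ Cfsg.jOvergroups T :=
  (c.ms.hstr L T c.hL.1 c.not_le (c.syl hTL) (thompsonSubgroupOf_le' 2 T)).2.2.2.2

theorem K_le_cent (_c : Ctx M T K L) {y : G} (hy : y ∈ YY T K) :
    K ≤ centralizer ({y} : Set G) :=
  le_centralizer_singleton (mem_YY.mp hy).2

theorem J_le_cent {y : G} (hy : y ∈ Z0 T) : J T ≤ centralizer ({y} : Set G) :=
  le_centralizer_singleton (fun _ hk => OZ_comm hy hk)

/-- (F3) -/
theorem cent_le (c : Ctx M T K L) {y : G} (hy : y ∈ YY T K) (hy1 : y ≠ 1) :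
    centralizer ({y} : Set G) ≤ L :=
  c.le_of_twoLocal (isTwoLocal_centralizer hy1 (OZ_sq (YY_le hy))) (c.K_le_cent hy)
    (J_le_cent (YY_le hy))

theorem cent_not_le (c : Ctx M T K L) {y : G} (hy : y ∈ YY T K) :
    ¬ centralizer ({y} : Set G) ≤ M := fun h => c.hKM ((c.K_le_cent hy).trans h)

theorem conj (c : Ctx M T K L) {g : G} (hg : g ∈ normalizer (J T : Set G)) :
    Ctx M T (conjS g K) (conjS g L) := by
  have hgM : g ∈ M := c.ms.hNJ hg
  refine ⟨c.ms, MS.isJComponent_conj c.hK hg, ?_, isMaximalTwoLocal_conjS c.hL g,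
    conjS_mono g c.hKL, ?_⟩
  · intro h
    apply c.hKM
    have h1 := conjS_mono g⁻¹ h
    rwa [conjS_inv_conjS, conjS_eq_of_mem_normalizer (le_normalizer (inv_mem hgM))] at h1
  · have h1 := conjS_mono g c.hJL
    rwa [conjS_eq_of_mem_normalizer hg] at h1

end Ctx

theorem Z0_conj {g : G} (hg : g ∈ normalizer (J T : Set G)) : conjS g (Z0 T) = Z0 T :=
  conjS_eq_of_mem_normalizer (normalizer_le_normalizer_omegaCenterOf _ hg)

theorem conj_mem_YY {g y : G} (hg : g ∈ normalizer (J T : Set G)) (hy : y ∈ YY T K) :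
    g * y * g⁻¹ ∈ YY T (conjS g K) := by
  obtain ⟨h1, h2⟩ := mem_YY.mp hy
  refine mem_YY.mpr ⟨?_, ?_⟩
  · rw [← Z0_conj hg]; exact conjS_mem h1
  · intro k hk
    have h3 := h2 _ (mem_conjS.mp hk)
    calc k * (g * y * g⁻¹) = g * ((g⁻¹ * k * g) * y) * g⁻¹ := by group
      _ = g * (y * (g⁻¹ * k * g)) * g⁻¹ := by rw [h3]
      _ = g * y * g⁻¹ * k := by group

namespace Ctx

/-- (F4) -/
theorem mem_of_conj_mem (c : Ctx M T K L) {g y : G} (hg : g ∈ normalizer (J T : Set G))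
    (hy : y ∈ YY T K) (hy1 : y ≠ 1) (hgy : g * y * g⁻¹ ∈ YY T K) : g ∈ L := by
  have c' := c.conj hg
  have hne : g * y * g⁻¹ ≠ 1 := by
    intro h
    apply hy1
    have : y = g⁻¹ * (g * y * g⁻¹) * g := by group
    rw [this, h]; group
  have h1 := c.cent_le hgy hne
  have h2 : conjS g K ≤ L := (c'.K_le_cent (conj_mem_YY hg hy)).trans h1
  have h3 : L = conjS g L := c'.unique c.hL h2 c.hJL
  rw [← normalizer_eq_of_max c.hL]
  apply Cfsg.Agent.Lib.Helper50.mem_normalizer_of_map_conj_le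
  exact h3.symm.le

theorem card_inf (c : Ctx M T K L) : Nat.card (Z0 T ⊓ Cfsg.wOf K : Subgroup G) = 2 :=
  (Cfsg.Agent.S2946.result c.ms.zn.hL c.ms.zn.hN c.ms.zn.hZ T c.ms.hT2 c.ms.hT1 K c.hK _ rfl).1

theorem card_Z0_le (c : Ctx M T K L) : Nat.card (Z0 T) ≤ 2 * Nat.card (YY T K) := by
  have h := (Cfsg.Agent.S2946.result c.ms.zn.hL c.ms.zn.hN c.ms.zn.hZ T c.ms.hT2 c.ms.hT1 K c.hK
    _ rfl).2
  have hle : Z0 T ≤ YY T K ⊔ (Z0 T ⊓ Cfsg.wOf K) := by
    refine h.symm.le.trans ?_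
    apply sup_le_sup_right
    intro x hx
    obtain ⟨h1, h2⟩ := mem_inf.mp hx
    refine mem_inf.mpr ⟨h1, ?_⟩
    exact centralizer_le le_sup_left (mem_inf.mp h2).2
  have hn : (Z0 T ⊓ Cfsg.wOf K : Subgroup G) ≤ normalizer (YY T K : Set G) := by
    intro x hx
    have hxZ : x ∈ Z0 T := (mem_inf.mp hx).1
    rw [mem_normalizer_iff]
    intro y
    have key : ∀ y ∈ YY T K, x * y * x⁻¹ = y := by
      intro y hy
      have h1 : x * y = y * x :=
        OZ_comm (YY_le hy) ((omegaCenterOf_le _ hxZ : x ∈ _ ⊓ _).1)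
      rw [h1]; group
    constructor
    · intro hy; rw [key y hy]; exact hy
    · intro hy
      have h1 : x * y * x⁻¹ ∈ Z0 T := YY_le hy
      have h2 : y ∈ Z0 T := by
        have : y = x⁻¹ * (x * y * x⁻¹) * x := by group
        rw [this]; exact mul_mem (mul_mem (inv_mem hxZ) h1) hxZ
      have h3 : x * y = y * x := OZ_comm h2 ((omegaCenterOf_le _ hxZ : x ∈ _ ⊓ _).1)
      have h4 : x * y * x⁻¹ = y := by rw [h3]; group
      rwa [h4] at hy
  have h1 := Nat.le_of_dvd (Nat.mul_pos Nat.card_pos Nat.card_pos)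
    (Cfsg.Agent.Lib.Helper22.card_sup_dvd hn)
  rw [c.card_inf] at h1
  have h2 := Subgroup.card_le_of_le hle
  omega

theorem exists_w (c : Ctx M T K L) : ∃ w, w ∈ Z0 T ∧ w ∈ Cfsg.wOf K ∧ w ≠ 1 := by
  have h := c.card_inf
  have hne : (Z0 T ⊓ Cfsg.wOf K : Subgroup G) ≠ ⊥ := by
    intro hb
    rw [hb, card_bot] at h
    norm_num at h
  obtain ⟨⟨w, hw⟩, hw1⟩ := Subgroup.ne_bot_iff_exists_ne_one.mp hne
  exact ⟨w, (mem_inf.mp hw).1, (mem_inf.mp hw).2, fun h => hw1 (Subtype.ext h)⟩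

/-- a 2-element of a 2-group `S ≥ T` outside `T` is not in `L`. -/
theorem not_mem (c : Ctx M T K L) (hTL : T ≤ L) {S : Subgroup G} (hS : IsPGroup 2 S)
    (hTS : T ≤ S) {s : G} (hsS : s ∈ S) (hsT : s ∉ T) : s ∉ L := by
  intro hsL
  apply hsT
  have h1 : T ⊔ zpowers s = T := (c.syl hTL).eq_of_le
    (hS.to_le (sup_le hTS (zpowers_le.mpr hsS))) le_sup_left (sup_le hTL (zpowers_le.mpr hsL))
  rw [← h1]
  exact le_sup_right (a := T) (mem_zpowers s)

/-- two components with different maximal 2-locals normalize no common nontrivial 2-subgroup. -/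
theorem core_bot (c : Ctx M T K L) {K' L' : Subgroup G} (c' : Ctx M T K' L') (hne : L' ≠ L)
    {N : Subgroup G} (hN2 : IsPGroup 2 N) (h1 : K ≤ normalizer (N : Set G))
    (h1' : K' ≤ normalizer (N : Set G)) (hJ : J T ≤ normalizer (N : Set G)) : N = ⊥ := by
  by_contra hN1
  obtain ⟨L₂, hL₂, hle⟩ := exists_maximalTwoLocal_ge
    (⟨N, hN2, hN1, rfl⟩ : Cfsg.IsTwoLocal (normalizer (N : Set G)))
  have e1 := c.unique hL₂ (h1.trans hle) (hJ.trans hle)
  have e2 := c'.unique hL₂ (h1'.trans hle) (hJ.trans hle)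
  exact hne (e2.symm.trans e1)

/-- `L^g ≠ L` for `g ∉ L`. -/
theorem conj_ne (c : Ctx M T K L) {g : G} (hg : g ∉ L) : conjS g L ≠ L := by
  intro h
  apply hg
  rw [← normalizer_eq_of_max c.hL]
  apply Cfsg.Agent.Lib.Helper50.mem_normalizer_of_map_conj_le
  exact h.le

end Ctx

end Cfsg.Agent.Lib.Helper55.KS
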