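import Cfsg.Agent.Lib.Helper55.KS.Defs

set_option autoImplicit false

namespace Cfsg.Agent.Lib.Helper55.KS

open Subgroup
open Cfsg.Agent.Lib.Helper22 (conjS)
open Cfsg.Agent.Lib.Helper47 (IsSylowIn)
open Cfsg.Agent.Lib.Helper48 (ZN MS MEA)
open scoped Pointwise

universe u

variable {G : Type u} [Group G] [Finite G]

omit [Finite G] in
theorem E1_mul_mem_iff {R T : Subgroup G} (h : R.relIndex T = 2) {a b : G} (ha : a ∈ T)
    (hb : b ∈ T) : a * b ∈ R ↔ (a ∈ R ↔ b ∈ R) := by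
  have := Subgroup.mul_mem_iff_of_index_two (H := R.subgroupOf T) h (a := ⟨a, ha⟩) (b := ⟨b, hb⟩)
  simpa [mem_subgroupOf] using this

omit [Finite G] in
theorem E1_key {A B T : Subgroup G} (hAT : A ≤ T) (hB2 : B.relIndex T = 2)
    (hBc : ∀ a ∈ B, ∀ b ∈ B, a * b = b * a) (hCA : centralizer (A : Set G) ≤ A) {q1 q2 : G}
    (h1 : q1 ∈ A) (h1' : q1 ∉ B) (h2 : q2 ∈ B) (hc : q1 * q2 = q2 * q1) : q2 ∈ A := by
  apply hCA
  rw [mem_centralizer_iff]
  intro a ha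
  by_cases haB : a ∈ B
  · exact hBc a haB q2 h2
  · have h3 : a * q1 ∈ B := (E1_mul_mem_iff hB2 (hAT ha) (hAT h1)).mpr
      ⟨fun h => absurd h haB, fun h => absurd h h1'⟩
    have h4 := hBc _ h3 q2 h2
    -- a q1 q2 = q2 a q1, q1 q2 = q2 q1
    have h5 : a * q2 * q1 = q2 * a * q1 := by
      calc a * q2 * q1 = a * (q1 * q2) := by rw [hc, mul_assoc]
        _ = a * q1 * q2 := by rw [mul_assoc]
        _ = q2 * (a * q1) := h4
        _ = q2 * a * q1 := by rw [mul_assoc]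
    exact mul_right_cancel h5

/-- abstract endgame of Case II. -/
theorem abs_final {S T Q V : Subgroup G} {s : G} (hS : IsPGroup 2 S) (hTS : T ≤ S)
    (hsS : s ∈ S) (hsT : conjS s T = T) (hs2 : s * s ∈ T)
    (hQT : Q ≤ T) (hQn : T ≤ normalizer (Q : Set G)) (hidx : Q.relIndex T = 2)
    (hQc : ∀ a ∈ Q, ∀ b ∈ Q, a * b = b * a) (hQe : ∀ a ∈ Q, a * a = 1)
    (hsup : Q ⊔ conjS s Q = T) (hCQ : centralizer (Q : Set G) ≤ Q)
    (hNQ : ∀ x ∈ S, x ∈ normalizer (Q : Set G) → x ∈ T)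
    (hVS : V ≤ S) (hVn : ∀ x ∈ S, conjS x V = V)
    (hVc : ∀ a ∈ V, ∀ b ∈ V, a * b = b * a) (hVe : ∀ a ∈ V, a * a = 1) :
    V ≤ Cfsg.omegaCenterOf T := by
  classical
  have : Fact (Nat.Prime 2) := ⟨Nat.prime_two⟩
  obtain ⟨Q2, hQ2⟩ : ∃ Q2 : Subgroup G, Q2 = conjS s Q := ⟨_, rfl⟩
  rw [← hQ2] at hsup
  have hmem2 : ∀ x, x ∈ Q2 ↔ s⁻¹ * x * s ∈ Q := by
    intro x; rw [hQ2]; exact Cfsg.Agent.Lib.Helper22.mem_conjS
  have hQ2T : Q2 ≤ T := by rw [← hsup]; exact le_sup_right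
  have hsQ2 : conjS s Q2 = Q := by
    rw [hQ2, ← Cfsg.Agent.Lib.Helper22.conjS_mul]
    exact Cfsg.Agent.Lib.Helper22.conjS_eq_of_mem_normalizer (hQn hs2)
  have hidx2 : Q2.relIndex T = 2 := by
    have := Subgroup.relIndex_map_map_of_injective Q T (f := (MulAut.conj s).toMonoidHom)
      (MulAut.conj s).injective
    have h2 : (conjS s Q).relIndex (conjS s T) = Q.relIndex T := this
    rw [hsT, ← hQ2, hidx] at h2
    exact h2
  have hQ2c : ∀ a ∈ Q2, ∀ b ∈ Q2, a * b = b * a := by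
    intro a ha b hb
    have := hQc _ ((hmem2 a).mp ha) _ ((hmem2 b).mp hb)
    calc a * b = s * ((s⁻¹ * a * s) * (s⁻¹ * b * s)) * s⁻¹ := by group
      _ = s * ((s⁻¹ * b * s) * (s⁻¹ * a * s)) * s⁻¹ := by rw [this]
      _ = b * a := by group
  have hQ2e : ∀ a ∈ Q2, a * a = 1 := by
    intro a ha
    have := hQe _ ((hmem2 a).mp ha)
    calc a * a = s * ((s⁻¹ * a * s) * (s⁻¹ * a * s)) * s⁻¹ := by group
      _ = 1 := by rw [this]; group
  have hCQ2 : centralizer (Q2 : Set G) ≤ Q2 := by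
    intro x hx
    rw [hmem2]
    apply hCQ
    rw [mem_centralizer_iff] at hx ⊢
    intro a ha
    have ha2 : s * a * s⁻¹ ∈ Q2 := by
      rw [hmem2]
      have : s⁻¹ * (s * a * s⁻¹) * s = a := by group
      rw [this]; exact ha
    have := hx _ ha2
    calc a * (s⁻¹ * x * s) = s⁻¹ * ((s * a * s⁻¹) * x) * s := by group
      _ = s⁻¹ * (x * (s * a * s⁻¹)) * s := by rw [this]
      _ = s⁻¹ * x * s * a := by group
  -- (1)
  have hVQ : V ≤ Q := by
    by_contra hcon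
    have hlt : Q < V ⊔ Q := by
      refine lt_of_le_of_ne le_sup_right ?_
      intro h
      apply hcon
      rw [h]; exact le_sup_left
    have hQS : Q ≤ S := hQT.trans hTS
    have hle : V ⊔ Q ≤ S := sup_le hVS hQS
    obtain ⟨x, hx, hxN, hxQ⟩ :=
      Cfsg.Agent.Lib.Helper22.exists_mem_normalizer_not_mem (hS.to_le hle) hlt
    have hQNV : Q ≤ normalizer (V : Set G) := by
      intro q hq
      exact mem_normalizer_iff_map_conj_eq.mpr (hVn q (hQS hq))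
    have hx' : x ∈ ((V ⊔ Q : Subgroup G) : Set G) := hx
    rw [Subgroup.coe_mul_of_right_le_normalizer_left V Q hQNV] at hx'
    obtain ⟨v, hv, q, hq, rfl⟩ := hx'
    have hv : v ∈ V := hv
    have hq : q ∈ Q := hq
    have hvN : v ∈ normalizer (Q : Set G) := by
      have := (normalizer (Q : Set G)).mul_mem hxN
        ((normalizer (Q : Set G)).inv_mem (le_normalizer hq))
      simpa [mul_assoc] using this
    have hvQ : v ∉ Q := fun h => hxQ (Q.mul_mem h hq)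
    have hvT : v ∈ T := hNQ v (hVS hv) hvN
    have hvT' : v ∈ ((Q ⊔ Q2 : Subgroup G) : Set G) := by rw [hsup]; exact hvT
    rw [Subgroup.coe_mul_of_right_le_normalizer_left Q Q2 (hQ2T.trans hQn)] at hvT'
    obtain ⟨q1, hq1, q2, hq2, hv12⟩ := hvT'
    have hq1 : q1 ∈ Q := hq1
    have hq2 : q2 ∈ Q2 := hq2
    have hv12 : q1 * q2 = v := hv12
    have hq2Q : q2 ∉ Q := fun h => hvQ (hv12 ▸ Q.mul_mem hq1 h)
    have hcomm12 : q1 * q2 = q2 * q1 := by
      have h1 := hVe v hv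
      rw [← hv12] at h1
      have e1 := hQe q1 hq1
      have e2 := hQ2e q2 hq2
      have i1 : q1 = q1⁻¹ := eq_inv_of_mul_eq_one_left e1
      have i2 : q2 = q2⁻¹ := eq_inv_of_mul_eq_one_left e2
      have i3 : q1 * q2 = (q1 * q2)⁻¹ := eq_inv_of_mul_eq_one_left h1
      rw [i3, mul_inv_rev, ← i1, ← i2]
    have hq1Q2 : q1 ∈ Q2 := by
      by_contra h
      exact hq2Q (E1_key hQT hidx2 hQ2c hCQ hq1 h hq2 hcomm12)
    have hvQ2 : v ∈ Q2 := hv12 ▸ Q2.mul_mem hq1Q2 hq2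
    have hv'V : s * v * s⁻¹ ∈ V := by
      have := Cfsg.Agent.Lib.Helper22.conjS_mem (g := s) hv
      rwa [hVn s hsS] at this
    have hv'Q : s * v * s⁻¹ ∈ Q := by
      have := Cfsg.Agent.Lib.Helper22.conjS_mem (g := s) hvQ2
      rwa [hsQ2] at this
    have hv'Q2 : s * v * s⁻¹ ∉ Q2 := by
      rw [hmem2]
      have : s⁻¹ * (s * v * s⁻¹) * s = v := by group
      rw [this]; exact hvQ
    exact hvQ (E1_key hQT hidx2 hQ2c hCQ hv'Q hv'Q2 hvQ2 (hVc _ hv'V _ hv))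
  -- (2)
  have hVQ2 : V ≤ Q2 := by
    intro v hv
    rw [hmem2]
    apply hVQ
    have : v ∈ conjS s V := by rw [hVn s hsS]; exact hv
    exact Cfsg.Agent.Lib.Helper22.mem_conjS.mp this
  -- (3)
  have hTc : T ≤ centralizer (V : Set G) := by
    rw [← hsup]
    refine sup_le ?_ ?_
    · intro q hq
      rw [mem_centralizer_iff]
      intro v hv
      exact hQc v (hVQ hv) q hq
    · intro q hq
      rw [mem_centralizer_iff]
      intro v hv
      exact hQ2c v (hVQ2 hv) q hq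
  have hVc' : V ≤ centralizer (T : Set G) := le_centralizer_iff.mp hTc
  intro v hv
  unfold Cfsg.omegaCenterOf Cfsg.omegaOne
  apply Subgroup.subset_closure
  exact ⟨⟨hQT (hVQ hv), hVc' hv⟩, by rw [pow_two]; exact hVe v hv⟩

end Cfsg.Agent.Lib.Helper55.KS
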