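import Cfsg.Agent.Lib.Helper55.KS.Defs

set_option autoImplicit false

namespace Cfsg.Agent.Lib.Helper55.KS

open Subgroup
open Cfsg.Agent.Lib.Helper22 (conjS)
open Cfsg.Agent.Lib.Helper47 (IsSylowIn)
open Cfsg.Agent.Lib.Helper48 (ZN MS MEA)

universe u

variable {G : Type u} [Group G] [Finite G]

theorem GD_isTwoLocal_conjS {L : Subgroup G} (hL : Cfsg.IsTwoLocal L) (m : G) :
    Cfsg.IsTwoLocal (conjS m L) := by
  obtain ⟨R, hR2, hR1, rfl⟩ := hL
  refine ⟨conjS m R, hR2.map _, ?_, ?_⟩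
  · intro h
    exact hR1 ((map_eq_bot_iff_of_injective R (MulAut.conj m).injective).1 h)
  · exact map_equiv_normalizer_eq R (MulAut.conj m)

theorem GD_straddling_conjS {M T : Subgroup G} (hT : T ∈ Cfsg.straddlingTwoSubgroups M) {m : G}
    (hm : m ∈ M) : conjS m T ∈ Cfsg.straddlingTwoSubgroups M := by
  obtain ⟨hT2, hT1, hTM, L, hL, hTL, hLM⟩ := hT
  refine ⟨hT2.map _, ?_, ?_, conjS m L, GD_isTwoLocal_conjS hL m,
    Cfsg.Agent.Lib.Helper48.conjS_mono m hTL, ?_⟩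
  · intro h
    exact hT1 ((map_eq_bot_iff_of_injective T (MulAut.conj m).injective).1 h)
  · have := Cfsg.Agent.Lib.Helper48.conjS_mono m hTM
    rwa [Cfsg.Agent.Lib.Helper48.conjS_self hm] at this
  · intro h
    apply hLM
    rw [Cfsg.Agent.Lib.Helper48.conjS_le_iff,
      Cfsg.Agent.Lib.Helper48.conjS_self (inv_mem hm)] at h
    exact h

theorem GD_a_conjS (m : G) (T : Subgroup G) :
    Cfsg.maxElemAbelianOrder (conjS m T) = Cfsg.maxElemAbelianOrder T := by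
  obtain ⟨A, hA⟩ := Cfsg.Agent.Lib.Helper48.exists_mea T
  rw [Cfsg.Agent.Lib.Helper48.maxElemAbelianOrder_eq hA,
    Cfsg.Agent.Lib.Helper48.maxElemAbelianOrder_eq (hA.conj m),
    Cfsg.Agent.Lib.Helper48.card_conjS]

theorem GD_cardJ_conjS (m : G) (T : Subgroup G) :
    Nat.card (Cfsg.thompsonSubgroupOf 2 (conjS m T)) = Nat.card (Cfsg.thompsonSubgroupOf 2 T) := by
  rw [Cfsg.Agent.Lib.Helper48.thompsonSubgroupOf_conjS, Cfsg.Agent.Lib.Helper48.card_conjS]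

theorem maxStraddling_conjS {M T : Subgroup G} (hT : T ∈ Cfsg.maxStraddlingTwoSubgroups M) {m : G}
    (hm : m ∈ M) : conjS m T ∈ Cfsg.maxStraddlingTwoSubgroups M := by
  refine ⟨GD_straddling_conjS hT.1 hm, ?_⟩
  intro T' hT'
  rw [GD_a_conjS, GD_cardJ_conjS, Cfsg.Agent.Lib.Helper48.card_conjS]
  exact hT.2 T' hT'

theorem exists_maxStraddling {M : Subgroup G} (hne : (Cfsg.straddlingTwoSubgroups M).Nonempty) :
    (Cfsg.maxStraddlingTwoSubgroups M).Nonempty := by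
  let f : Subgroup G → ℕ ×ₗ (ℕ ×ₗ ℕ) := fun T =>
    toLex (Cfsg.maxElemAbelianOrder T, toLex (Nat.card (Cfsg.thompsonSubgroupOf 2 T), Nat.card T))
  obtain ⟨T₀, hT₀, hmax⟩ := Set.exists_max_image (Cfsg.straddlingTwoSubgroups M) f
    (Set.toFinite _) hne
  refine ⟨T₀, hT₀, ?_⟩
  intro T hT
  have h := hmax T hT
  rw [Prod.Lex.toLex_le_toLex'] at h
  refine ⟨h.1, fun h1 => ?_⟩
  have h2 := h.2 h1
  rw [Prod.Lex.toLex_le_toLex'] at h2
  exact h2

theorem exists_maxStraddling_le (S : Sylow 2 G) {M : Subgroup G} (hSM : (S : Subgroup G) ≤ M)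
    (hne : (Cfsg.straddlingTwoSubgroups M).Nonempty) :
    ∃ T ∈ Cfsg.maxStraddlingTwoSubgroups M, T ≤ (S : Subgroup G) := by
  have : Fact (Nat.Prime 2) := ⟨Nat.prime_two⟩
  obtain ⟨T, hT⟩ := exists_maxStraddling hne
  obtain ⟨m, hm, hTm⟩ := (Cfsg.Agent.Lib.Helper47.isSylowIn_of_sylow S hSM).exists_conj_ge
    hT.1.1 hT.1.2.2.1
  change T ≤ conjS m (S : Subgroup G) at hTm
  refine ⟨conjS m⁻¹ T, maxStraddling_conjS hT (inv_mem hm), ?_⟩
  rw [Cfsg.Agent.Lib.Helper48.conjS_le_iff, inv_inv]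
  exact hTm

end Cfsg.Agent.Lib.Helper55.KS
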