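import Cfsg.Agent.Lib.Helper55.KS.Defs
import Cfsg.Agent.Lib.Helper51.PGroup

set_option autoImplicit false

namespace Cfsg.Agent.Lib.Helper55.KS

open Subgroup
open Cfsg.Agent.Lib.Helper22 (conjS)
open Cfsg.Agent.Lib.Helper47 (IsSylowIn)
open Cfsg.Agent.Lib.Helper48 (ZN MS MEA)

universe u

variable {G : Type u} [Group G] [Finite G]

private theorem P1_arith {a b i : ℕ} (hi : ¬ 2 ∣ i) (h : 2 ^ b * i = 2 ^ a * 3) : i = 3 := by
  have h1 : 2 ^ b ∣ 2 ^ a := by
    have : 2 ^ b ∣ 2 ^ a * 3 := ⟨i, h.symm⟩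
    exact (Nat.Coprime.dvd_of_dvd_mul_right (Nat.Coprime.pow_left b (by norm_num)) this)
  have h2 : 2 ^ a ∣ 2 ^ b := by
    have : 2 ^ a ∣ 2 ^ b * i := ⟨3, h⟩
    refine Nat.Coprime.dvd_of_dvd_mul_right (Nat.Coprime.pow_left a ?_) this
    exact (Nat.Prime.coprime_iff_not_dvd Nat.prime_two).mpr hi
  have h3 : 2 ^ a = 2 ^ b := Nat.dvd_antisymm h2 h1
  rw [h3] at h
  exact Nat.eq_of_mul_eq_mul_left (by positivity) h

private theorem P1_relIndex_mul_card {H K : Subgroup G} (h : H ≤ K) :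
    H.relIndex K * Nat.card H = Nat.card K := by
  rw [← relIndex_bot_left, ← relIndex_bot_left, mul_comm]
  exact relIndex_mul_relIndex ⊥ H K bot_le h

/-- `|KT : T| = 3`. -/
theorem abs_relIndex_three {K T R : Subgroup G} (hTK : T ≤ normalizer (K : Set G))
    (hsyl : IsSylowIn 2 T (K ⊔ T)) (hRK : R ≤ K) (hR2 : IsPGroup 2 R) (hRidx : R.relIndex K = 3) :
    T.relIndex (K ⊔ T) = 3 := by
  haveI : Fact (Nat.Prime 2) := ⟨Nat.prime_two⟩
  have hPN : K ⊔ T ≤ normalizer (K : Set G) := sup_le le_normalizer hTK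
  have hs2 : IsSylowIn 2 (T ⊓ K) K := hsyl.inf_of_normal le_sup_left hPN
  obtain ⟨a, ha⟩ := (IsPGroup.iff_card (p := 2)).mp hR2
  obtain ⟨b, hb⟩ := (IsPGroup.iff_card (p := 2)).mp hs2.isPGroup
  have c1 : R.relIndex K * Nat.card R = Nat.card K := P1_relIndex_mul_card hRK
  have c2 : (T ⊓ K).relIndex K * Nat.card (T ⊓ K : Subgroup G) = Nat.card K :=
    P1_relIndex_mul_card inf_le_right
  have hidx : (T ⊓ K).relIndex K = 3 := by
    refine P1_arith (a := a) (b := b) hs2.not_dvd_relIndex ?_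
    rw [← hb, ← ha, mul_comm, c2, ← c1, hRidx, mul_comm]
  have c3 := Cfsg.Agent.Lib.Helper51.card_sup_mul_card_inf_of_le_normalizer T K hTK
  have c4 : T.relIndex (K ⊔ T) * Nat.card T = Nat.card (K ⊔ T : Subgroup G) :=
    P1_relIndex_mul_card le_sup_right
  rw [sup_comm] at c3
  rw [← c4, ← c2, hidx] at c3
  have hpos1 : 0 < Nat.card T := Nat.card_pos
  have hpos2 : 0 < Nat.card (T ⊓ K : Subgroup G) := Nat.card_pos
  have : T.relIndex (K ⊔ T) * (Nat.card T * Nat.card (T ⊓ K : Subgroup G)) =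
      3 * (Nat.card T * Nat.card (T ⊓ K : Subgroup G)) := by
    calc T.relIndex (K ⊔ T) * (Nat.card T * Nat.card (T ⊓ K : Subgroup G))
        = T.relIndex (K ⊔ T) * Nat.card T * Nat.card (T ⊓ K : Subgroup G) := by ring
      _ = Nat.card T * (3 * Nat.card (T ⊓ K : Subgroup G)) := c3
      _ = _ := by ring
  exact Nat.eq_of_mul_eq_mul_right (Nat.mul_pos hpos1 hpos2) this

end Cfsg.Agent.Lib.Helper55.KS
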