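import Cfsg.Agent.Lib.Helper55.KS.Defs

set_option autoImplicit false

namespace Cfsg.Agent.Lib.Helper55.KS

open Subgroup
open scoped commutatorElement
open Cfsg.Agent.Lib.Helper22 (conjS)
open Cfsg.Agent.Lib.Helper47 (IsSylowIn)
open Cfsg.Agent.Lib.Helper48 (ZN MS MEA)

universe u

variable {G : Type u} [Group G] [Finite G]

private theorem P2_all {W : Subgroup G} {w a : G} (hW4 : Nat.card W = 4) (hw : w ∈ W) (ha : a ∈ W)
    (hw1 : w ≠ 1) (ha1 : a ≠ 1) (haw : a ≠ w) (hww : w * w = 1) :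
    ∀ x ∈ W, x = 1 ∨ x = w ∨ x = a ∨ x = w * a := by
  classical
  have hs : (({1, w, a, w * a} : Finset G) : Set G) ⊆ (W : Set G) := by
    intro x hx
    simp only [Finset.coe_insert, Finset.coe_singleton, Set.mem_insert_iff,
      Set.mem_singleton_iff] at hx
    rcases hx with rfl | rfl | rfl | rfl
    · exact W.one_mem
    · exact hw
    · exact ha
    · exact W.mul_mem hw ha
  have h1 : a ≠ w * a := by
    intro h
    apply hw1
    exact (mul_right_cancel ((one_mul a).trans h)).symm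
  have h2 : w ≠ w * a := by
    intro h
    apply ha1
    exact (mul_left_cancel ((mul_one w).trans h)).symm
  have h3 : (1 : G) ≠ w * a := by
    intro h
    apply haw
    exact (mul_left_cancel (hww.trans h)).symm
  have hcard : ({1, w, a, w * a} : Finset G).card = 4 := by
    rw [Finset.card_insert_of_notMem, Finset.card_insert_of_notMem,
      Finset.card_insert_of_notMem, Finset.card_singleton]
    · simpa using h1
    · simp only [Finset.mem_insert, Finset.mem_singleton, not_or]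
      exact ⟨haw.symm, h2⟩
    · simp only [Finset.mem_insert, Finset.mem_singleton, not_or]
      exact ⟨hw1.symm, ha1.symm, h3⟩
  have hc : (W : Set G).ncard = 4 := by
    rw [← _root_.Nat.card_coe_set_eq]; exact hW4
  have heq := Set.eq_of_subset_of_ncard_le hs (by rw [Set.ncard_coe_finset, hcard, hc])
    (Set.toFinite _)
  intro x hx
  have hx' : x ∈ (({1, w, a, w * a} : Finset G) : Set G) := by rw [heq]; exact hx
  simpa using hx'

/-- `O₂(P) = C_T(W)` has index 6 in `P`, and `P / O₂(P)` is not abelian. -/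
theorem abs_core {P T W : Subgroup G} {w : G}
    (hTP : T ≤ P) (hT2 : IsPGroup 2 T) (hidx : T.relIndex P = 3)
    (hW4 : Nat.card W = 4) (hWe : ∀ a ∈ W, a * a = 1) (hPW : P ≤ normalizer (W : Set G))
    (hw : w ∈ W) (hw1 : w ≠ 1) (hTw : T ≤ centralizer ({w} : Set G))
    (hPw : ¬ P ≤ centralizer ({w} : Set G)) (hTW : ¬ T ≤ centralizer (W : Set G)) :
    Cfsg.pCoreOf 2 P = T ⊓ centralizer (W : Set G) ∧ (Cfsg.pCoreOf 2 P).relIndex P = 6 ∧
      (Cfsg.pCoreOf 2 P).relIndex T = 2 ∧ ¬ ⁅P, P⁆ ≤ Cfsg.pCoreOf 2 P := by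
  haveI : Fact (Nat.Prime 2) := ⟨Nat.prime_two⟩
  -- the element `a`
  obtain ⟨p, hpP, hp⟩ : ∃ p ∈ P, p * w * p⁻¹ ≠ w := by
    by_contra hcon
    push_neg at hcon
    apply hPw
    intro p hp
    rw [mem_centralizer_iff]
    intro x hx
    rw [Set.mem_singleton_iff] at hx
    rw [hx]
    calc w * p = (p * w * p⁻¹) * p := by rw [hcon p hp]
      _ = p * w := by group
  obtain ⟨a, ha⟩ : ∃ a, a = p * w * p⁻¹ := ⟨_, rfl⟩
  rw [← ha] at hp
  have haW : a ∈ W := by rw [ha]; exact (mem_normalizer_iff.mp (hPW hpP) w).mp hw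
  have ha1 : a ≠ 1 := by
    intro h
    apply hw1
    have : w = p⁻¹ * a * p := by rw [ha]; group
    rw [this, h]; group
  have hww : w * w = 1 := hWe w hw
  have hall := P2_all hW4 hw haW hw1 ha1 hp hww
  have hTwc : ∀ t ∈ T, t * w * t⁻¹ = w := by
    intro t ht
    have := (mem_centralizer_iff.mp (hTw ht)) w rfl
    calc t * w * t⁻¹ = (w * t) * t⁻¹ := by rw [this]
      _ = w := by group
  -- `t` centralizes `W` iff it centralizes `a`
  have hcent : ∀ t ∈ T, t * a * t⁻¹ = a → t ∈ centralizer (W : Set G) := by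
    intro t ht h
    rw [mem_centralizer_iff]
    intro x hx
    have key : t * x * t⁻¹ = x := by
      rcases hall x hx with h' | h' | h' | h'
      · rw [h']; group
      · rw [h']; exact hTwc t ht
      · rw [h']; exact h
      · rw [h']
        calc t * (w * a) * t⁻¹ = (t * w * t⁻¹) * (t * a * t⁻¹) := by group
          _ = w * a := by rw [h, hTwc t ht]
    calc x * t = (t * x * t⁻¹) * t := by rw [key]
      _ = t * x := by group
  have hTa : ∀ t ∈ T, t * a * t⁻¹ = a ∨ t * a * t⁻¹ = w * a := by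
    intro t ht
    have hmem : t * a * t⁻¹ ∈ W := (mem_normalizer_iff.mp (hPW (hTP ht)) a).mp haW
    rcases hall _ hmem with h | h | h | h
    · exfalso
      apply ha1
      have : a = t⁻¹ * (t * a * t⁻¹) * t := by group
      rw [this, h]; group
    · exfalso
      apply hp
      have h7 : t * a * t⁻¹ = t * w * t⁻¹ := h.trans (hTwc t ht).symm
      exact mul_left_cancel (mul_right_cancel h7)
    · exact Or.inl h
    · exact Or.inr h
  -- `P` does not normalize `T`
  have hnorm : ¬ P ≤ normalizer (T : Set G) := by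
    intro hn
    apply hTW
    intro t ht
    apply hcent t ht
    have h1 : p⁻¹ * t * p⁻¹⁻¹ ∈ T := (mem_normalizer_iff.mp (hn (P.inv_mem hpP)) t).mp ht
    have h2 := hTwc _ h1
    rw [ha]
    calc t * (p * w * p⁻¹) * t⁻¹ = p * ((p⁻¹ * t * p⁻¹⁻¹) * w * (p⁻¹ * t * p⁻¹⁻¹)⁻¹) * p⁻¹ := by
          group
      _ = p * w * p⁻¹ := by rw [h2]
  -- the stabilizer of `w`
  have hSt : P ⊓ centralizer ({w} : Set G) ≤ T := by
    have h1 : T ≤ P ⊓ centralizer ({w} : Set G) := le_inf hTP hTw
    have h2 := relIndex_mul_relIndex T (P ⊓ centralizer ({w} : Set G)) P h1 inf_le_left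
    rw [hidx] at h2
    have h3 : (P ⊓ centralizer ({w} : Set G)).relIndex P ≠ 1 := by
      intro h
      apply hPw
      exact (relIndex_eq_one.mp h).trans inf_le_right
    have h4 : (P ⊓ centralizer ({w} : Set G)).relIndex P ∣ 3 := ⟨_, by rw [mul_comm]; exact h2.symm⟩
    have h5 : (P ⊓ centralizer ({w} : Set G)).relIndex P = 3 :=
      ((Nat.dvd_prime Nat.prime_three).mp h4).resolve_left h3
    rw [h5] at h2
    have h6 : T.relIndex (P ⊓ centralizer ({w} : Set G)) = 1 := by omega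
    exact relIndex_eq_one.mp h6
  have hCeq : P ⊓ centralizer (W : Set G) = T ⊓ centralizer (W : Set G) := by
    apply le_antisymm
    · refine le_inf ?_ inf_le_right
      refine le_trans ?_ hSt
      refine inf_le_inf_left _ ?_
      exact centralizer_le (by intro x hx; rw [Set.mem_singleton_iff] at hx; rw [hx]; exact hw)
    · exact inf_le_inf_right _ hTP
  have hCn : P ≤ normalizer ((T ⊓ centralizer (W : Set G) : Subgroup G) : Set G) := by
    rw [← hCeq]
    exact Cfsg.Agent.Lib.Helper49.le_normalizer_inf_centralizer hPW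
  have hC2 : IsPGroup 2 (T ⊓ centralizer (W : Set G) : Subgroup G) := hT2.to_le inf_le_left
  have hCO : T ⊓ centralizer (W : Set G) ≤ Cfsg.pCoreOf 2 P :=
    Cfsg.Agent.Lib.Helper47.le_pCoreOf (inf_le_left.trans hTP) hCn hC2
  have hsyl : IsSylowIn 2 T P :=
    Cfsg.Agent.Lib.Helper47.isSylowIn_of_not_dvd_relIndex hTP hT2 (by rw [hidx]; norm_num)
  have hOT : Cfsg.pCoreOf 2 P ≤ T := Cfsg.Agent.Lib.Helper47.pCoreOf_le_of_isSylowIn hsyl
  have hCT : (T ⊓ centralizer (W : Set G)).relIndex T = 2 := by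
    obtain ⟨t₀, ht₀, ht₀'⟩ := SetLike.not_le_iff_exists.mp hTW
    have h0 : t₀ * a * t₀⁻¹ = w * a := by
      rcases hTa t₀ ht₀ with h | h
      · exact absurd (hcent t₀ ht₀ h) ht₀'
      · exact h
    rw [relIndex_eq_two_iff_exists_notMem_and']
    refine ⟨t₀, ht₀, fun h => ht₀' (mem_inf.mp h).2, ?_⟩
    intro b hb
    rcases hTa b hb with h | h
    · right
      exact mem_inf.mpr ⟨hb, hcent b hb h⟩
    · left
      refine mem_inf.mpr ⟨T.mul_mem ht₀ hb, hcent _ (T.mul_mem ht₀ hb) ?_⟩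
      calc t₀ * b * a * (t₀ * b)⁻¹ = t₀ * (b * a * b⁻¹) * t₀⁻¹ := by group
        _ = (t₀ * w * t₀⁻¹) * (t₀ * a * t₀⁻¹) := by rw [h]; group
        _ = w * (w * a) := by rw [hTwc t₀ ht₀, h0]
        _ = a := by rw [← mul_assoc, hww, one_mul]
  have hOne : ¬ T ≤ Cfsg.pCoreOf 2 P := by
    intro h
    apply hnorm
    have : Cfsg.pCoreOf 2 P = T := le_antisymm hOT h
    rw [← this]
    exact Cfsg.Agent.Lib.Helper47.le_normalizer_pCoreOf P
  have hOC : Cfsg.pCoreOf 2 P = T ⊓ centralizer (W : Set G) := by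
    have h2 := relIndex_mul_relIndex (T ⊓ centralizer (W : Set G)) (Cfsg.pCoreOf 2 P) T hCO hOT
    rw [hCT] at h2
    have h3 : (Cfsg.pCoreOf 2 P).relIndex T ≠ 1 := fun h => hOne (relIndex_eq_one.mp h)
    have h4 : (Cfsg.pCoreOf 2 P).relIndex T ∣ 2 := ⟨_, by rw [mul_comm]; exact h2.symm⟩
    have h5 : (Cfsg.pCoreOf 2 P).relIndex T = 2 :=
      ((Nat.dvd_prime Nat.prime_two).mp h4).resolve_left h3
    rw [h5] at h2
    have h6 : (T ⊓ centralizer (W : Set G)).relIndex (Cfsg.pCoreOf 2 P) = 1 := by omega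
    exact le_antisymm (relIndex_eq_one.mp h6) hCO
  refine ⟨hOC, ?_, ?_, ?_⟩
  · rw [hOC, ← relIndex_mul_relIndex _ T P inf_le_left hTP, hCT, hidx]
  · rw [hOC]; exact hCT
  · intro hcomm
    apply hOne
    refine Cfsg.Agent.Lib.Helper47.le_pCoreOf hTP ?_ hT2
    rw [Subgroup.le_normalizer_iff]
    intro q hq t ht
    have h1 : ⁅q, t⁆ ∈ T := hOT (hcomm (commutator_mem_commutator hq (hTP ht)))
    have : q * t * q⁻¹ = ⁅q, t⁆ * t := by rw [commutatorElement_def]; group
    rw [this]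
    exact T.mul_mem h1 ht

end Cfsg.Agent.Lib.Helper55.KS
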