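import Cfsg.Agent.Lib.Helper55.KS.C1
import Cfsg.Agent.Lib.Helper55.KS.P1
import Cfsg.Agent.Lib.Helper55.KS.P2
import Cfsg.Agent.S2943

set_option autoImplicit false

namespace Cfsg.Agent.Lib.Helper55.KS

open Subgroup
open Cfsg.Agent.Lib.Helper22 (conjS mem_conjS conjS_mem conjS_eq_of_mem_normalizer)
open Cfsg.Agent.Lib.Helper47 (IsSylowIn)
open Cfsg.Agent.Lib.Helper48

universe u

variable {G : Type u} [Group G] [Finite G] {M T K L : Subgroup G}

/-- the structure of `P = ⟨K, T⟩`. -/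
theorem P_struct (c : Ctx M T K L) (hTL : T ≤ L) (hZ0 : ∀ t ∈ T, ∀ a ∈ Z0 T, t * a = a * t) :
    T ≤ normalizer (K : Set G) ∧ T.relIndex (K ⊔ T) = 3 ∧
      (Cfsg.pCoreOf 2 (K ⊔ T)).relIndex T = 2 ∧ PClause T (K ⊔ T) := by
  classical
  have : Fact (Nat.Prime 2) := ⟨Nat.prime_two⟩
  have zn := c.ms.zn
  obtain ⟨w, hwZ, hwW, hw1⟩ := c.exists_w
  have hZ0J : Z0 T ≤ J T := fun a ha => (mem_inf.mp (omegaCenterOf_le _ ha)).1
  have hJT : J T ≤ T := thompsonSubgroupOf_le' 2 T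
  have hwT : w ∈ T := hJT (hZ0J hwZ)
  have hwc : ∀ t ∈ T, t * w = w * t := fun t ht => hZ0 t ht w hwZ
  have hZW : T ⊓ centralizer (T : Set G) ⊓ Cfsg.wOf K ≠ ⊥ := by
    intro h
    have : w ∈ T ⊓ centralizer (T : Set G) ⊓ Cfsg.wOf K :=
      ⟨⟨hwT, mem_centralizer_iff.mpr hwc⟩, hwW⟩
    rw [h, mem_bot] at this
    exact hw1 this
  have hTK := Cfsg.Agent.S2943.result zn.hL zn.hN zn.hZ T c.ms.hT2 c.ms.hT1 L (c.mem hTL) K c.hK
    c.hKL hZW
  have hPL : K ⊔ T ≤ L := sup_le c.hKL hTL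
  have hsylP : IsSylowIn 2 T (K ⊔ T) := (c.syl hTL).mono le_sup_right hPL
  have h3 := abs_relIndex_three hTK hsylP (Cfsg.Agent.Lib.Helper49.pCoreOf_le 2 K)
    (Cfsg.Agent.Lib.Helper49.pCoreOf_isPGroup 2 K) c.hK.2.2.1
  obtain ⟨d, hd⟩ := exists_jd c.hK
  have hdw : ¬ d * w = w * d := by
    intro hcomm
    apply hw1
    have : w ∈ Cfsg.wOf K ⊓ centralizer (zpowers d : Set G) := by
      refine mem_inf.mpr ⟨hwW, ?_⟩
      rw [Cfsg.Agent.Lib.Helper22.centralizer_zpowers, mem_centralizer_iff]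
      intro x hx
      rw [Set.mem_singleton_iff.mp hx]; exact hcomm
    rw [hd.wOf_inf_centralizer, mem_bot] at this
    exact this
  have hPW : K ⊔ T ≤ normalizer (Cfsg.wOf K : Set G) :=
    (sup_le le_normalizer hTK).trans (normalizer_le_normalizer_wOf K)
  have hTw : T ≤ centralizer ({w} : Set G) := le_centralizer_singleton hwc
  have hdP : d ∈ K ⊔ T := le_sup_left (a := K) (b := T) hd.hdK
  have hPw : ¬ K ⊔ T ≤ centralizer ({w} : Set G) := by
    intro h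
    have := h hdP
    rw [mem_centralizer_iff] at this
    exact hdw (this w rfl).symm
  have hOLT : Cfsg.pCoreOf 2 L ≤ T := Cfsg.Agent.Lib.Helper47.pCoreOf_le_of_isSylowIn (c.syl hTL)
  have hWT : Cfsg.wOf K ≤ T :=
    (JS.W_le_P K).trans ((pCoreOf_comp_le zn c.ms.hT1 (c.mem hTL) c.hK c.hKL).trans hOLT)
  have hTW : ¬ T ≤ centralizer (Cfsg.wOf K : Set G) := by
    intro h
    have hle : Cfsg.wOf K ≤ Z0 T := by
      intro a ha
      apply OZ_le_Z0 c.ms.hT2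
      exact mem_OZ (hWT ha) (fun t ht => (mem_centralizer_iff.mp (h ht) a ha).symm)
        (c.hK.2.2.2.2.2 a ha)
    have h1 := c.card_inf
    rw [inf_eq_right.mpr hle, c.hK.2.2.2.2.1] at h1
    norm_num at h1
  obtain ⟨hcore, h6, h2, hnab⟩ := abs_core (P := K ⊔ T) (T := T) (W := Cfsg.wOf K) (w := w)
    le_sup_right c.ms.hT2 h3 c.hK.2.2.2.2.1 c.hK.2.2.2.2.2 hPW hwW hw1 hTw hPw hTW
  refine ⟨hTK, h3, h2, ?_, isSylowTwoIn_of hsylP, h6, hnab, ?_, L, c.hL, hPL,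
    isSylowTwoIn_of (c.syl hTL), ?_⟩
  · have hOL : Cfsg.pCoreOf 2 L ≤ Cfsg.pCoreOf 2 (K ⊔ T) :=
      Cfsg.Agent.Lib.Helper49.le_pCoreOf (hOLT.trans le_sup_right)
        (hPL.trans (Cfsg.Agent.Lib.Helper49.le_normalizer_pCoreOf 2 L))
        (Cfsg.Agent.Lib.Helper49.pCoreOf_isPGroup 2 L)
    exact (centralizer_le hOL).trans (((c.mem hTL).2.2).trans hOL)
  · intro h
    have hwOZ : w ∈ Cfsg.omegaCenterOf T := mem_OZ hwT hwc (OZ_sq hwZ)
    have := commutator_mem_commutator hwOZ hdP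
    rw [h, mem_bot, commutatorElement_eq_one_iff_mul_comm] at this
    exact hdw this.symm
  · intro L' hL' hPL'
    exact c.unique hL' (le_sup_left.trans hPL') ((hJT.trans le_sup_right).trans hPL')

end Cfsg.Agent.Lib.Helper55.KS
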