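import Cfsg.Agent.Lib.Helper55.KS.Defs
import Cfsg.Agent.Lib.Helper55.Involutions
import Cfsg.Agent.Lib.Helper55.SylowTwo

set_option autoImplicit false

namespace Cfsg.Agent.Lib.Helper55.KS

open Subgroup
open Cfsg.Agent.Lib.Helper22 (conjS)
open Cfsg.Agent.Lib.Helper47 (IsSylowIn)
open Cfsg.Agent.Lib.Helper48 (ZN MS MEA)

universe u

variable {G : Type u} [Group G] [Finite G]

omit [Finite G] in
theorem S1_mem_normalizer_of_conjS {g : G} {H : Subgroup G} (h : conjS g H = H) :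
    g ∈ normalizer (H : Set G) := by
  rw [mem_normalizer_iff]
  intro x
  constructor
  · intro hx
    rw [← h]
    exact Cfsg.Agent.Lib.Helper22.conjS_mem hx
  · intro hx
    rw [← h, Cfsg.Agent.Lib.Helper22.mem_conjS] at hx
    have e : g⁻¹ * (g * x * g⁻¹) * g = x := by group
    rwa [e] at hx

/-- Step 1 of Case II: a maximal 2-local `L ≥ S` not normalizing `J(S)` is not "strongly embedded". -/
theorem straddling_nonempty (zn : ZN G) (hO : Cfsg.pCore 2 G = ⊥) (S : Sylow 2 G) {L : Subgroup G}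
    (hL : Cfsg.IsMaximalTwoLocal L) (hSL : (S : Subgroup G) ≤ L)
    (hnot : ¬ L ≤ normalizer (J (S : Subgroup G) : Set G)) :
    (Cfsg.straddlingTwoSubgroups L).Nonempty := by
  have : Fact (Nat.Prime 2) := ⟨Nat.prime_two⟩
  by_contra hemp
  -- (*)
  have hstar : ∀ R : Subgroup G, IsPGroup 2 R → R ≠ ⊥ → R ≤ L → normalizer (R : Set G) ≤ L := by
    intro R hR2 hR1 hRL
    by_contra hcon
    exact hemp ⟨R, hR2, hR1, hRL, _, ⟨R, hR2, hR1, rfl⟩, le_normalizer, hcon⟩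
  have hcen : ∀ t ∈ L, orderOf t = 2 → ∀ x : G, Commute x t → x ∈ L := by
    intro t htL ht x hx
    have h2 : IsPGroup 2 (zpowers t) := by
      apply IsPGroup.of_card (n := 1)
      rw [Nat.card_zpowers, ht, pow_one]
    have h1 : zpowers t ≠ ⊥ := by
      intro h
      rw [zpowers_eq_bot] at h
      rw [h, orderOf_one] at ht
      norm_num at ht
    apply hstar _ h2 h1 (zpowers_le.2 htL)
    apply centralizer_le_normalizer
    rw [mem_centralizer_iff]
    rintro y ⟨k, rfl⟩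
    exact ((hx.zpow_right k).eq).symm
  have hSylL : IsSylowIn 2 (S : Subgroup G) L := Cfsg.Agent.Lib.Helper47.isSylowIn_of_sylow S hSL
  have hS1 : (S : Subgroup G) ≠ ⊥ := by
    intro h
    have h2 : 2 ^ 1 ∣ Nat.card (S : Subgroup G) :=
      S.pow_dvd_card_of_pow_dvd_card (by simpa using even_iff_two_dvd.1 zn.hL.1)
    rw [h, card_bot] at h2
    norm_num at h2
  -- `J(S)` is not in `Q`
  have hJQ : ¬ Cfsg.thompsonSubgroupOf 2 (S : Subgroup G) ≤ Cfsg.pCoreOf 2 L := by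
    intro hle
    apply hnot
    have h1 := Cfsg.Agent.Lib.Helper48.J_eq_of_le_sylow hSylL
      (Cfsg.Agent.Lib.Helper49.pCoreOf_isPGroup 2 L) (Cfsg.Agent.Lib.Helper49.pCoreOf_le 2 L) hle
    refine ((Cfsg.Agent.Lib.Helper49.le_normalizer_pCoreOf 2 L).trans
      (Cfsg.Agent.Lib.Helper48.normalizer_le_normalizer_thompsonSubgroupOf 2 _)).trans ?_
    rw [h1]
  rw [Cfsg.Agent.Lib.Helper48.J_le_iff] at hJQ
  push Not at hJQ
  obtain ⟨A, hA, hAQ⟩ := hJQ
  obtain ⟨a, haA, haQ⟩ := SetLike.not_le_iff_exists.1 hAQ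
  have haS : a ∈ (S : Subgroup G) := hA.1 haA
  have haL : a ∈ L := hSL haS
  have ha1 : a ≠ 1 := by
    rintro rfl
    exact haQ (one_mem _)
  have ha2 : orderOf a = 2 := by
    apply Cfsg.Agent.Lib.Helper55.orderOf_two_of ha1
    have := hA.2.1.2 a haA
    rwa [sq] at this
  -- the central involution `z`
  obtain ⟨z, hzS, hz2, hzc⟩ := Cfsg.Agent.Lib.Helper55.exists_central_involution
    (S : Subgroup G) S.2 hS1
  have hzQ : z ∈ Cfsg.pCoreOf 2 L := by
    obtain ⟨⟨U, hU2, hU1, rfl⟩, -⟩ := hL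
    apply Cfsg.Agent.Lib.Helper48.centralizer_pCoreOf_le zn hU2 hU1
    rw [mem_centralizer_iff]
    intro y hy
    exact hzc y (Cfsg.Agent.Lib.Helper47.pCoreOf_le_of_isSylowIn hSylL hy)
  have hz1 : z ≠ 1 := Cfsg.Agent.Lib.Helper55.ne_one_of_orderOf_two hz2
  -- (al)
  have hal : ∃ g : G, g * a * g⁻¹ ∉ L := by
    by_contra hcon
    push Not at hcon
    have hNL : normalClosure {a} ≤ L := by
      rw [normalClosure, closure_le]
      rintro y hy
      obtain ⟨b, hb, hby⟩ := Group.mem_conjugatesOfSet_iff.1 hy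
      rw [Set.mem_singleton_iff] at hb
      subst hb
      obtain ⟨c, rfl⟩ := isConj_iff.1 hby
      exact hcon c
    have hn : (⊤ : Subgroup G) ≤ normalizer ((normalClosure {a} : Subgroup G) : Set G) := by
      rw [normalizer_eq_top]
    have hsyl := (Cfsg.Agent.Lib.Helper47.isSylowIn_top S).inf_of_normal le_top hn
    have hne : (S : Subgroup G) ⊓ normalClosure {a} ≠ ⊥ := by
      intro h
      apply ha1
      have : a ∈ (S : Subgroup G) ⊓ normalClosure {a} :=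
        ⟨haS, subset_normalClosure (Set.mem_singleton a)⟩
      rw [h] at this
      exact this
    have hNle := hstar _ (S.2.to_le inf_le_left) hne (inf_le_left.trans hSL)
    have htop : L = ⊤ := by
      rw [eq_top_iff]
      intro g hg
      obtain ⟨n, hn', x, hx, rfl⟩ := hsyl.frattini le_top hn hg
      exact mul_mem (hNL hn') (hNle hx.2)
    rw [htop, Cfsg.Agent.Lib.Helper49.pCoreOf_top, hO] at hzQ
    exact hz1 hzQ
  obtain ⟨g, hg⟩ := hal
  have ha'2 : orderOf (g * a * g⁻¹) = 2 := Cfsg.Agent.Lib.Helper55.orderOf_conj_two g ha2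
  -- (be)
  have hbe : ∀ u ∈ L, orderOf u = 2 → IsConj u (g * a * g⁻¹) := by
    intro u huL hu2
    by_contra hnc
    obtain ⟨i, hi2, hiu, hia, -⟩ :=
      Cfsg.Agent.Lib.Helper55.exists_involution_commute_of_not_isConj u _ hu2 ha'2 hnc
    have hiL : i ∈ L := hcen u huL hu2 i hiu
    exact hg (hcen i hiL hi2 _ hia.symm)
  -- (ga)
  have hza : IsConj a z :=
    (isConj_iff.2 ⟨g, rfl⟩ : IsConj a (g * a * g⁻¹)).trans (hbe z (hSL hzS) hz2).symm
  obtain ⟨h, hh⟩ := isConj_iff.1 hza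
  have hSh : conjS h⁻¹ (S : Subgroup G) ≤ L := by
    rintro _ ⟨s, hs, rfl⟩
    apply hcen a haL ha2
    change h⁻¹ * s * h⁻¹⁻¹ * a = a * (h⁻¹ * s * h⁻¹⁻¹)
    have h1 : s * z = z * s := hzc s hs
    rw [← hh] at h1
    have h2 : h⁻¹ * (s * (h * a * h⁻¹)) * h = h⁻¹ * ((h * a * h⁻¹) * s) * h := by rw [h1]
    calc h⁻¹ * s * h⁻¹⁻¹ * a = h⁻¹ * (s * (h * a * h⁻¹)) * h := by group
      _ = h⁻¹ * ((h * a * h⁻¹) * s) * h := h2
      _ = a * (h⁻¹ * s * h⁻¹⁻¹) := by group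
  have hsyl2 : IsSylowIn 2 (conjS h⁻¹ (S : Subgroup G)) L := by
    have h1 := (Cfsg.Agent.Lib.Helper47.isSylowIn_top S).conj h⁻¹
    change IsSylowIn 2 (conjS h⁻¹ (S : Subgroup G)) (conjS h⁻¹ ⊤) at h1
    rw [Cfsg.Agent.Lib.Helper48.conjS_self (mem_top _)] at h1
    exact h1.mono hSh le_top
  obtain ⟨l, hlL, hl⟩ := hsyl2.exists_conj hSylL
  change conjS l (conjS h⁻¹ (S : Subgroup G)) = S at hl
  rw [← Cfsg.Agent.Lib.Helper22.conjS_mul] at hl
  have hlh : l * h⁻¹ ∈ L := hstar _ S.2 hS1 hSL (S1_mem_normalizer_of_conjS hl)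
  have hhL : h⁻¹ ∈ L := by
    have := mul_mem (inv_mem hlL) hlh
    rwa [inv_mul_cancel_left] at this
  apply haQ
  have hn := Cfsg.Agent.Lib.Helper49.le_normalizer_pCoreOf 2 L hhL
  have h3 := (mem_normalizer_iff.1 hn z).1 hzQ
  rw [← hh] at h3
  have e : h⁻¹ * (h * a * h⁻¹) * h⁻¹⁻¹ = a := by group
  rwa [e] at h3

end Cfsg.Agent.Lib.Helper55.KS
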