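import Cfsg.Agent.Lib.Helper55.KS.T1
import Cfsg.Agent.Lib.Helper55.KS.PS
import Cfsg.Agent.Lib.Helper55.KS.E1
import Cfsg.Agent.Lib.Helper55.KS.S1
import Cfsg.Agent.Lib.Helper55.KS.GD
import Cfsg.Agent.S2949
import Cfsg.Agent.S2950

/-!
# K-S 12.3: Case II is impossible (helper55)
-/

set_option autoImplicit false

namespace Cfsg.Agent.Lib.Helper55.KS

open Subgroup
open Cfsg.Agent.Lib.Helper22 (conjS mem_conjS conjS_mem conjS_eq_of_mem_normalizer)
open Cfsg.Agent.Lib.Helper47 (IsSylowIn)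
open Cfsg.Agent.Lib.Helper48

universe u

variable {G : Type u} [Group G] [Finite G] {M T K L : Subgroup G}

/-- the hypotheses of the symmetric amalgam theorem hold for `P = ⟨K, T⟩` and `s ∈ N_S(T) - T`. -/
theorem hyp_of (c : Ctx M T K L) (hTL : T ≤ L) (hZ0 : ∀ t ∈ T, ∀ a ∈ Z0 T, t * a = a * t)
    {S : Subgroup G} (hS : IsPGroup 2 S) (hTS : T ≤ S) {s : G} (hsS : s ∈ S)
    (hsN : s ∈ normalizer (T : Set G)) (hsT : s ∉ T) (hs2 : s * s ∈ T) :
    Cfsg.Agent.Lib.Helper33.KS.Hyp (K ⊔ T) T s := by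
  obtain ⟨-, h3, -, hC, -, h6, -, hcomm, -⟩ := P_struct c hTL hZ0
  have hsJ : s ∈ normalizer (J T : Set G) := normalizer_le_normalizer_thompsonSubgroupOf 2 T hsN
  refine ⟨le_sup_right, c.ms.hT2, h3, h6, hC, conjS_eq_of_mem_normalizer hsN, hs2, ?_, ?_⟩
  · intro hle
    apply hcomm
    rw [commutator_eq_bot_iff_le_centralizer]
    exact le_centralizer_iff.mp hle
  · intro N hN2 h1 h2
    exact c.core_bot (c.conj hsJ) (c.conj_ne (c.not_mem hTL hS hTS hsS hsT)) hN2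
      (le_sup_left.trans h1) ((conjS_mono s le_sup_left).trans h2)
      (((thompsonSubgroupOf_le' 2 T).trans le_sup_right).trans h1)

/-- Case II is impossible. -/
theorem caseII (zn : ZN G) (hO : Cfsg.pCore 2 G = ⊥) (hsym : SymAm G) : CaseII G := by
  intro S L hL hSL huniq
  by_contra hnot
  have hS1 : (S : Subgroup G) ≠ ⊥ := by
    intro hb
    apply hnot
    have : J (S : Subgroup G) = ⊥ := le_bot_iff.mp (hb ▸ thompsonSubgroupOf_le' 2 (S : Subgroup G))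
    rw [this]
    intro x _
    rw [mem_normalizer_iff]
    intro y
    simp only [mem_bot]
    constructor
    · rintro rfl; group
    · intro h
      have : y = x⁻¹ * (x * y * x⁻¹) * x := by group
      rw [this, h]; group
  -- (0) every 2-local over `S` is in `L`
  have h0 : ∀ N : Subgroup G, Cfsg.IsTwoLocal N → (S : Subgroup G) ≤ N → N ≤ L := by
    intro N hN hSN
    obtain ⟨L', hL', hNL'⟩ := exists_maximalTwoLocal_ge hN
    exact (huniq L' hL' (hSN.trans hNL')) ▸ hNL'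
  have hSJ : (S : Subgroup G) ≤ normalizer (J (S : Subgroup G) : Set G) :=
    le_normalizer.trans (normalizer_le_normalizer_thompsonSubgroupOf 2 _)
  have hMJ : normalizer (J (S : Subgroup G) : Set G) ≤ L :=
    h0 _ ⟨_, S.2.to_le (thompsonSubgroupOf_le' 2 _), J_ne_bot S.2 hS1, rfl⟩ hSJ
  -- (1)
  obtain ⟨T, hT, hTS⟩ := exists_maxStraddling_le S hSL (straddling_nonempty zn hO S hL hSL hnot)
  have hne : T ≠ (S : Subgroup G) := by
    rintro rfl
    obtain ⟨-, -, -, L₂, hL₂, hSL₂, hn⟩ := hT.1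
    exact hn (h0 L₂ hL₂ hSL₂)
  -- (2)
  obtain ⟨K, hK⟩ := Cfsg.Agent.S2949.result zn.hL zn.hN zn.hZ hO S L hL.1 hMJ T hT
  obtain ⟨L₁, hL₁, hKJ, -, -, hs⟩ :=
    Cfsg.Agent.S2950.result zn.hL zn.hN zn.hZ hO S L hL.1 hMJ T hT K hK
  have c : Ctx L T K L₁ := ⟨ms_of zn S hMJ hT, hK.1.1, hK.2.1, hL₁, le_sup_left.trans hKJ,
    le_sup_right.trans hKJ⟩
  have hTL₁ : T ≤ L₁ := hs.1
  -- (3)
  obtain ⟨-, hZ0, hconj⟩ := TltS c hTL₁ hT S hMJ hTS hne
  obtain ⟨-, -, h2, hC, hsylP, -, -, -, -⟩ := P_struct c hTL₁ hZ0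
  obtain ⟨s, hsS, hsN, hsT, hs2⟩ := exists_sq_mem S.2 (lt_of_le_of_ne hTS hne)
  obtain ⟨hQc, hQe, hsup⟩ := hsym _ _ _ (hyp_of c hTL₁ hZ0 S.2 hTS hsS hsN hsT hs2)
  -- (4)
  have hQn : K ⊔ T ≤ normalizer (Cfsg.pCoreOf 2 (K ⊔ T) : Set G) :=
    Cfsg.Agent.Lib.Helper49.le_normalizer_pCoreOf 2 (K ⊔ T)
  have hQ1 : Cfsg.pCoreOf 2 (K ⊔ T) ≠ ⊥ := by
    intro hb
    apply c.ms.hT1
    rw [hb] at hC
    rw [eq_bot_iff]
    intro x _
    apply hC
    rw [mem_centralizer_iff]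
    intro y hy
    rw [(mem_bot.mp hy : y = 1)]; simp
  have hLn : L ≤ normalizer (Cfsg.omegaCenterOf (Cfsg.pCoreOf 2 L) : Set G) :=
    (Cfsg.Agent.Lib.Helper49.le_normalizer_pCoreOf 2 L).trans
      (normalizer_le_normalizer_omegaCenterOf _)
  have hO2S : Cfsg.pCoreOf 2 L ≤ (S : Subgroup G) :=
    Cfsg.Agent.Lib.Helper47.pCoreOf_le_of_isSylowIn (Cfsg.Agent.Lib.Helper47.isSylowIn_of_sylow S hSL)
  have hV : Cfsg.omegaCenterOf (Cfsg.pCoreOf 2 L) ≤ Cfsg.omegaCenterOf T := by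
    apply abs_final (S := (S : Subgroup G)) (Q := Cfsg.pCoreOf 2 (K ⊔ T)) (s := s) S.2 hTS hsS
      (conjS_eq_of_mem_normalizer hsN) hs2
      (Cfsg.Agent.Lib.Helper47.pCoreOf_le_of_isSylowIn (isSylowIn_of_two hsylP))
      (le_sup_right.trans hQn) h2 hQc hQe hsup hC
    · intro x hxS hxN
      by_contra hxT
      exact c.not_mem hTL₁ S.2 hTS hxS hxT
        (c.le_of_twoLocal ⟨_, Cfsg.Agent.Lib.Helper49.pCoreOf_isPGroup 2 _, hQ1, rfl⟩
          (le_sup_left.trans hQn) (((thompsonSubgroupOf_le' 2 T).trans le_sup_right).trans hQn) hxN)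
    · exact ((omegaCenterOf_le _).trans inf_le_left).trans hO2S
    · intro x hx
      exact conjS_eq_of_mem_normalizer (hLn (hSL hx))
    · intro a ha b hb
      exact OZ_comm hb ((omegaCenterOf_le _ ha : a ∈ _ ⊓ _).1)
    · intro a ha
      exact OZ_sq ha
  -- (5)
  have hZV : Cfsg.omegaCenterOf (S : Subgroup G) ≤ Cfsg.omegaCenterOf (Cfsg.pCoreOf 2 L) := by
    intro z hz
    have hzC : z ∈ centralizer (Cfsg.pCoreOf 2 L : Set G) := by
      rw [mem_centralizer_iff]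
      intro q hq
      exact OZ_comm hz (hO2S hq)
    have hzQ : z ∈ Cfsg.pCoreOf 2 L := by
      obtain ⟨U, hU2, hU1, rfl⟩ := hL.1
      exact centralizer_pCoreOf_le zn hU2 hU1 hzC
    exact mem_OZ hzQ (fun t ht => OZ_comm hz (hO2S ht)) (OZ_sq hz)
  -- (6)
  have hLZ : L ≤ normalizer (Cfsg.omegaCenterOf (S : Subgroup G) : Set G) := by
    intro l hl
    apply Cfsg.Agent.Lib.Helper50.mem_normalizer_of_map_conj_le
    rintro _ ⟨z, hz, rfl⟩
    change l * z * l⁻¹ ∈ _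
    have h1 : l * z * l⁻¹ ∈ Cfsg.omegaCenterOf (Cfsg.pCoreOf 2 L) := by
      rw [← conjS_eq_of_mem_normalizer (hLn hl)]
      exact conjS_mem (hZV hz)
    apply hconj _ (OZ_le_Z0 c.ms.hT2 (hV h1)) l⁻¹
    have e : l⁻¹ * (l * z * l⁻¹) * l⁻¹⁻¹ = z := by group
    rw [e]; exact hz
  -- (7)
  exact hnot ((hLZ.trans (normalizer_OZ_le zn S)).trans
    (normalizer_le_normalizer_thompsonSubgroupOf 2 _))

end Cfsg.Agent.Lib.Helper55.KS
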