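import Cfsg.Agent.Lib.Helper48.JC25
import Cfsg.Agent.Lib.Helper33.KS.Defs

/-!
# K-S 12.3 (S2951, S2952, S2953): definitions of the local part (helper55)
-/

set_option autoImplicit false

namespace Cfsg.Agent.Lib.Helper55.KS

open Subgroup
open Cfsg.Agent.Lib.Helper22 (conjS)
open Cfsg.Agent.Lib.Helper47 (IsSylowIn)
open Cfsg.Agent.Lib.Helper48 (ZN MS)

universe u

variable {G : Type u} [Group G]

/-- `J(T)`. -/
abbrev J (T : Subgroup G) : Subgroup G := Cfsg.thompsonSubgroupOf 2 T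

/-- `Z₀ = Ω₁(Z(J(T)))`. -/
abbrev Z0 (T : Subgroup G) : Subgroup G := Cfsg.omegaCenterOf (Cfsg.thompsonSubgroupOf 2 T)

/-- `Y = C_{Z₀}(K)`. -/
def YY (T K : Subgroup G) : Subgroup G := Z0 T ⊓ centralizer (K : Set G)

/-- the standing situation: `K` is a `J(T)`-component outside `M`, `L` a maximal 2-local over
`⟨K, J(T)⟩` (it is the only one). -/
structure Ctx [Finite G] (M T K L : Subgroup G) : Prop where
  ms : MS M T
  hK : Cfsg.IsJComponent T K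
  hKM : ¬ K ≤ M
  hL : Cfsg.IsMaximalTwoLocal L
  hKL : K ≤ L
  hJL : J T ≤ L

/-- the clause of S2953 for `P = ⟨K, T⟩`. -/
def PClause (T P : Subgroup G) : Prop :=
  centralizer (Cfsg.pCoreOf 2 P : Set G) ≤ Cfsg.pCoreOf 2 P ∧ Cfsg.IsSylowTwoIn T P ∧
    (Cfsg.pCoreOf 2 P).relIndex P = 6 ∧ ¬ ⁅P, P⁆ ≤ Cfsg.pCoreOf 2 P ∧
    ⁅Cfsg.omegaCenterOf T, P⁆ ≠ ⊥ ∧
    ∃ L : Subgroup G, Cfsg.IsMaximalTwoLocal L ∧ P ≤ L ∧ Cfsg.IsSylowTwoIn T L ∧
      ∀ L' : Subgroup G, Cfsg.IsMaximalTwoLocal L' → P ≤ L' → L' = L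

/-- the symmetric amalgam theorem (helper33), as a hypothesis. -/
def SymAm (G : Type u) [Group G] : Prop :=
  ∀ (P T : Subgroup G) (s : G), Cfsg.Agent.Lib.Helper33.KS.Hyp P T s →
    Cfsg.Agent.Lib.Helper33.KS.Concl P T s

/-- Case II is impossible: the only maximal 2-local over `S` normalizes `J(S)`. -/
def CaseII (G : Type u) [Group G] : Prop :=
  ∀ (S : Sylow 2 G) (L : Subgroup G), Cfsg.IsMaximalTwoLocal L → (S : Subgroup G) ≤ L →
    (∀ L' : Subgroup G, Cfsg.IsMaximalTwoLocal L' → (S : Subgroup G) ≤ L' → L' = L) →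
    L ≤ normalizer (J (S : Subgroup G) : Set G)

end Cfsg.Agent.Lib.Helper55.KS
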