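import Cfsg.Agent.Lib.Helper55.KS.Defs

set_option autoImplicit false

namespace Cfsg.Agent.Lib.Helper55.KS

open Subgroup
open Cfsg.Agent.Lib.Helper22 (conjS)
open Cfsg.Agent.Lib.Helper47 (IsSylowIn)
open Cfsg.Agent.Lib.Helper48 (ZN MS MEA)

universe u

variable {G : Type u} [Group G] [Finite G]

/-- a Sylow 2-subgroup is in the standing situation relative to `N(J(S))`. -/
theorem ms_sylow (zn : ZN G) (S : Sylow 2 G) :
    MS (normalizer (J (S : Subgroup G) : Set G)) (S : Subgroup G) := by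
  have : Fact (Nat.Prime 2) := ⟨Nat.prime_two⟩
  have hS1 : (S : Subgroup G) ≠ ⊥ := by
    intro h
    have h2 : 2 ^ 1 ∣ Nat.card (S : Subgroup G) :=
      S.pow_dvd_card_of_pow_dvd_card (by simpa using even_iff_two_dvd.1 zn.hL.1)
    rw [h, card_bot] at h2
    norm_num at h2
  refine ⟨zn, le_rfl, ?_, S.2, hS1, Cfsg.Agent.Lib.Helper48.sylow_le_of S le_rfl⟩
  intro L T₀ hL2 hLM hT₀ hJ
  have hST := Cfsg.Agent.Lib.Helper47.isSylowIn_top S
  obtain ⟨S'', hS''⟩ := hT₀.isPGroup.exists_le_sylow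
  have hJ'' : Cfsg.thompsonSubgroupOf 2 (S'' : Subgroup G)
      = Cfsg.thompsonSubgroupOf 2 (S : Subgroup G) :=
    Cfsg.Agent.Lib.Helper48.J_eq_of_le_sylow hST S''.2 le_top (hJ.trans hS'')
  have hJ₀ : Cfsg.thompsonSubgroupOf 2 T₀ = Cfsg.thompsonSubgroupOf 2 (S : Subgroup G) :=
    Cfsg.Agent.Lib.Helper48.J_eq_of_le_sylow hST hT₀.isPGroup le_top hJ
  have hJ1 := Cfsg.Agent.Lib.Helper48.J_ne_bot S.2 hS1
  refine ⟨?_, ?_, hJ₀, ?_, Cfsg.Agent.Lib.Helper48.isSylowTwoIn_of hT₀, ?_, ?_⟩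
  · intro h
    apply hJ1
    rw [eq_bot_iff, ← h]
    exact hJ
  · have h1 : (S'' : Subgroup G) ≤ normalizer (J (S'' : Subgroup G) : Set G) :=
      le_normalizer.trans (Cfsg.Agent.Lib.Helper48.normalizer_le_normalizer_thompsonSubgroupOf 2 _)
    have h2 : J (S'' : Subgroup G) = J (S : Subgroup G) := hJ''
    rw [h2] at h1
    exact hS''.trans h1
  · calc Nat.card T₀ ≤ Nat.card (S'' : Subgroup G) := Subgroup.card_le_of_le hS''
      _ = Nat.card (S : Subgroup G) := by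
        rw [Sylow.card_eq_multiplicity, Sylow.card_eq_multiplicity]
  · intro hle
    apply hLM
    have h1 := Cfsg.Agent.Lib.Helper48.J_eq_of_le_sylow hT₀
      (Cfsg.Agent.Lib.Helper49.pCoreOf_isPGroup 2 L) (Cfsg.Agent.Lib.Helper49.pCoreOf_le 2 L) hle
    refine ((Cfsg.Agent.Lib.Helper49.le_normalizer_pCoreOf 2 L).trans
      (Cfsg.Agent.Lib.Helper48.normalizer_le_normalizer_thompsonSubgroupOf 2 _)).trans ?_
    rw [h1, hJ₀]
  · obtain ⟨U, hU2, hU1, rfl⟩ := hL2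
    exact Cfsg.Agent.Lib.Helper48.centralizer_pCoreOf_le zn hU2 hU1

end Cfsg.Agent.Lib.Helper55.KS
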