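import Cfsg.Agent.Lib.Helper55.KS.C1
import Cfsg.Agent.Lib.Helper55.KS.B1
import Cfsg.Agent.Lib.Helper55.KS.GC

set_option autoImplicit false

namespace Cfsg.Agent.Lib.Helper55.KS

open Subgroup
open Cfsg.Agent.Lib.Helper22 (conjS mem_conjS conjS_mem conjS_eq_of_mem_normalizer)
open Cfsg.Agent.Lib.Helper47 (IsSylowIn)
open Cfsg.Agent.Lib.Helper48

universe u

variable {G : Type u} [Group G] [Finite G] {M T K L : Subgroup G}

/-- the case `T = S`, two components with different maximal 2-locals. -/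
theorem TeqS (S : Sylow 2 G) {K' L' : Subgroup G} (c : Ctx M (S : Subgroup G) K L)
    (c' : Ctx M (S : Subgroup G) K' L') (hSL : (S : Subgroup G) ≤ L) (hne : L' ≠ L) :
    Cfsg.omegaCenterOf (S : Subgroup G) = Z0 (S : Subgroup G) ∧
      (Nat.card (Z0 (S : Subgroup G)) = 2 ∨ Nat.card (Z0 (S : Subgroup G)) = 4) := by
  classical
  have hNSJ : normalizer ((S : Subgroup G) : Set G) ≤ normalizer (J (S : Subgroup G) : Set G) :=
    normalizer_le_normalizer_thompsonSubgroupOf 2 _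
  have hSNJ : (S : Subgroup G) ≤ normalizer (J (S : Subgroup G) : Set G) :=
    le_normalizer.trans hNSJ
  have hZ0J : Z0 (S : Subgroup G) ≤ J (S : Subgroup G) :=
    fun a ha => (mem_inf.mp (omegaCenterOf_le _ ha)).1
  have hJS : J (S : Subgroup G) ≤ S := thompsonSubgroupOf_le' 2 _
  have hexp : ∀ a ∈ Z0 (S : Subgroup G), a * a = 1 := fun a ha => OZ_sq ha
  have hcomm : ∀ a ∈ Z0 (S : Subgroup G), ∀ b ∈ Z0 (S : Subgroup G), a * b = b * a :=
    fun a ha b hb => OZ_comm hb (hZ0J ha)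
  have key : ∀ u, u ∈ YY (S : Subgroup G) K' → centralizer ({u} : Set G) ≤ L → False := by
    intro u hu hle
    exact hne (c'.unique c.hL ((c'.K_le_cent hu).trans hle) c.hJL).symm
  have hnle : ∀ {K₁ L₁ : Subgroup G}, Ctx M (S : Subgroup G) K₁ L₁ →
      ¬ Cfsg.omegaCenterOf (S : Subgroup G) ≤ YY (S : Subgroup G) K₁ := by
    intro K₁ L₁ c₁ h
    apply c₁.hKM
    have h1 : K₁ ≤ centralizer (Cfsg.omegaCenterOf (S : Subgroup G) : Set G) := by
      intro k hk
      rw [mem_centralizer_iff]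
      intro z hz
      exact ((mem_YY.mp (h hz)).2 k hk).symm
    exact h1.trans ((c₁.ms.zn.hZ S).trans (hNSJ.trans c₁.ms.hNJ))
  apply abs_TeqS (Z₀ := Z0 (S : Subgroup G)) (Y := YY (S : Subgroup G) K)
    (Y' := YY (S : Subgroup G) K') (Z := Cfsg.omegaCenterOf (S : Subgroup G)) (S := (S : Subgroup G))
    hexp hcomm YY_le YY_le c.card_Z0_le c'.card_Z0_le ?_ (fun t ht => Z0_conj (hSNJ ht))
    (OZ_le_Z0 S.2) (OZ_ne_bot S.2 c.ms.hT1) (fun t ht z hz => OZ_comm hz ht)
    (fun a ha h => mem_OZ (hJS (hZ0J ha)) h (hexp a ha)) ?_ (hnle c) (hnle c')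
  · rw [eq_bot_iff]
    rintro u ⟨hu, hu'⟩
    rw [mem_bot]
    by_contra hu1
    exact key u hu' (c.cent_le hu hu1)
  · intro t ht y hy hy1 hty
    have ct := c.conj (hSNJ ht)
    have hL : conjS t L = L := conjS_eq_of_mem_normalizer (le_normalizer (hSL ht))
    have hne1 : t * y * t⁻¹ ≠ 1 := by
      intro h'
      apply hy1
      calc y = t⁻¹ * (t * y * t⁻¹) * t := by group
        _ = 1 := by rw [h']; group
    have h1 := ct.cent_le (conj_mem_YY (K := K) (hSNJ ht) hy) hne1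
    rw [hL] at h1
    exact key _ hty h1

/-- the case `T = S`: a second component, from a second maximal 2-local over `S`. -/
theorem exists_second (S : Sylow 2 G)
    (c : Ctx (normalizer (J (S : Subgroup G) : Set G)) (S : Subgroup G) K L)
    (hSL : (S : Subgroup G) ≤ L) {H : Subgroup G} (hH : Cfsg.IsMaximalTwoLocal H)
    (hSH : (S : Subgroup G) ≤ H) (hHL : H ≠ L) :
    ∃ K' L', Ctx (normalizer (J (S : Subgroup G) : Set G)) (S : Subgroup G) K' L' ∧ L' ≠ L ∧
      (S : Subgroup G) ≤ L' := by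
  classical
  have : Fact (Nat.Prime 2) := ⟨Nat.prime_two⟩
  by_cases hJ : J (S : Subgroup G) ≤ Cfsg.pCoreOf 2 H
  · have hsyl : IsSylowIn 2 (S : Subgroup G) H := Cfsg.Agent.Lib.Helper47.isSylowIn_of_sylow S hSH
    have hJeq : Cfsg.thompsonSubgroupOf 2 (Cfsg.pCoreOf 2 H) =
        Cfsg.thompsonSubgroupOf 2 (S : Subgroup G) :=
      J_eq_of_le_sylow hsyl (Cfsg.Agent.Lib.Helper47.pCoreOf_isPGroup H)
        (Cfsg.Agent.Lib.Helper47.pCoreOf_le H) hJ
    have hHM0 : H ≤ normalizer (J (S : Subgroup G) : Set G) := by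
      refine (Cfsg.Agent.Lib.Helper47.le_normalizer_pCoreOf (p := 2) H).trans ?_
      have := normalizer_le_normalizer_thompsonSubgroupOf 2 (Cfsg.pCoreOf 2 H)
      rwa [hJeq] at this
    have hnle : ¬ H ≤ L := fun hle => hHL (hH.2 L c.hL.1 hle).symm
    obtain ⟨g, hgH, hgL⟩ := SetLike.not_le_iff_exists.mp hnle
    have hg := hHM0 hgH
    have c' := c.conj hg
    have hne := c.conj_ne hgL
    refine ⟨_, _, c', hne, ?_⟩
    have hOZ := (TeqS S c c' hSL hne).1
    have hgNS : g ∈ normalizer ((S : Subgroup G) : Set G) := by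
      apply normalizer_OZ_le c.ms.zn S
      rw [hOZ]
      exact normalizer_le_normalizer_omegaCenterOf _ hg
    have := conjS_mono g hSL
    rwa [conjS_eq_of_mem_normalizer hgNS] at this
  · obtain ⟨U, hU2, hU1, hHU⟩ := hH.1
    have hmem : H ∈ Cfsg.jOvergroups (S : Subgroup G) := by
      refine ⟨isSylowTwoIn_of (Cfsg.Agent.Lib.Helper47.isSylowIn_of_sylow S hSH), hJ, ?_⟩
      rw [hHU]
      exact centralizer_pCoreOf_le c.ms.zn hU2 hU1
    obtain ⟨K2, hK2, hK2H⟩ := exists_comp_of_mem c.ms.zn c.ms.hT1 hmem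
    exact ⟨K2, H, ⟨c.ms, hK2, not_le_normalizer_J S.2 hK2, hH, hK2H,
      (thompsonSubgroupOf_le' 2 _).trans hSH⟩, hHL, hSH⟩

end Cfsg.Agent.Lib.Helper55.KS
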