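import Cfsg.Agent.Lib.Helper55.KS.C2
import Cfsg.Agent.Lib.Helper55.KS.TE

/-!
# K-S 12.3: the main lemmas behind S2951, S2952, S2953 (helper55)
-/

set_option autoImplicit false

namespace Cfsg.Agent.Lib.Helper55.KS

open Subgroup
open Cfsg.Agent.Lib.Helper22 (conjS mem_conjS conjS_mem conjS_eq_of_mem_normalizer)
open Cfsg.Agent.Lib.Helper47 (IsSylowIn)
open Cfsg.Agent.Lib.Helper48

universe u

set_option linter.unusedSectionVars false

variable {G : Type u} [Group G] [Finite G] {M T K L : Subgroup G}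

theorem coe_smul_sylow (m : G) (S : Sylow 2 G) :
    ((m • S : Sylow 2 G) : Subgroup G) = conjS m (S : Subgroup G) := rfl

/-- replace `S` by an `M`-conjugate containing `T`. -/
theorem exists_sylow_ge (S : Sylow 2 G) (hMJ : normalizer (J (S : Subgroup G) : Set G) ≤ M)
    (hT2 : IsPGroup 2 T) (hTM : T ≤ M) :
    ∃ S' : Sylow 2 G, normalizer (J (S' : Subgroup G) : Set G) ≤ M ∧ T ≤ (S' : Subgroup G) := by
  have hSM := sylow_le_of S hMJ
  obtain ⟨m, hm, hTm⟩ := (Cfsg.Agent.Lib.Helper47.isSylowIn_of_sylow S hSM).exists_conj_ge hT2 hTM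
  refine ⟨m • S, ?_, hTm⟩
  rw [coe_smul_sylow]
  change normalizer (Cfsg.thompsonSubgroupOf 2 (conjS m (S : Subgroup G)) : Set G) ≤ M
  rw [thompsonSubgroupOf_conjS]
  intro x hx
  have h1 := le_normalizer_conjS m⁻¹ (zpowers_le.mpr hx)
  rw [conjS_inv_conjS] at h1
  have h2 : m⁻¹ * x * m⁻¹⁻¹ ∈ M := hMJ (h1 (conjS_mem (mem_zpowers x)))
  have h3 := mul_mem (mul_mem hm h2) (inv_mem hm)
  have e : m * (m⁻¹ * x * m⁻¹⁻¹) * m⁻¹ = x := by group
  rwa [e] at h3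

/-- the context attached to `K ∈ 𝒦_{G-M}(T)`. -/
theorem ctx_of (zn : ZN G) (hO : Cfsg.pCore 2 G = ⊥) (S : Sylow 2 G) (hM : Cfsg.IsTwoLocal M)
    (hMJ : normalizer (J (S : Subgroup G) : Set G) ≤ M)
    (hT : T ∈ Cfsg.maxStraddlingTwoSubgroups M) (hK : K ∈ Cfsg.jComponentsOutside M T) :
    ∃ L, Ctx M T K L ∧ T ≤ L := by
  obtain ⟨L, hL, hKJ, -, -, hs⟩ :=
    Cfsg.Agent.S2950.result zn.hL zn.hN zn.hZ hO S M hM hMJ T hT K hK
  exact ⟨L, ⟨ms_of zn S hMJ hT, hK.1.1, hK.2.1, hL, le_sup_left.trans hKJ,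
    le_sup_right.trans hKJ⟩, hs.1⟩

/-- for `T = S`: a second component with a different maximal 2-local. -/
theorem exists_second' (hII : CaseII G) (S : Sylow 2 G) (c : Ctx M (S : Subgroup G) K L)
    (hSL : (S : Subgroup G) ≤ L) :
    ∃ K' L', Ctx (normalizer (J (S : Subgroup G) : Set G)) (S : Subgroup G) K L ∧
      Ctx (normalizer (J (S : Subgroup G) : Set G)) (S : Subgroup G) K' L' ∧ L' ≠ L ∧
      (S : Subgroup G) ≤ L' := by
  have c0 : Ctx (normalizer (J (S : Subgroup G) : Set G)) (S : Subgroup G) K L :=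
    ⟨ms_sylow c.ms.zn S, c.hK, fun h => c.hKM (h.trans c.ms.hNJ), c.hL, c.hKL, c.hJL⟩
  have hex : ∃ H, Cfsg.IsMaximalTwoLocal H ∧ (S : Subgroup G) ≤ H ∧ H ≠ L := by
    by_contra hcon
    push Not at hcon
    exact c0.not_le (hII S L c.hL hSL hcon)
  obtain ⟨H, hH, hSH, hHL⟩ := hex
  obtain ⟨K', L', c', hne, hSL'⟩ := exists_second S c0 hSL hH hSH hHL
  exact ⟨K', L', c0, c', hne, hSL'⟩

/-- S2951 without the first clause. -/
theorem main51 (hII : CaseII G) (S : Sylow 2 G)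
    (hMJ : normalizer (J (S : Subgroup G) : Set G) ≤ M)
    (hT : T ∈ Cfsg.maxStraddlingTwoSubgroups M) (hTS : T ≤ (S : Subgroup G))
    (c : Ctx M T K L) (hTL : T ≤ L) :
    (Cfsg.omegaCenterOf (S : Subgroup G) = Z0 T ∧ Nat.card (Z0 T) = 2) ∨
      (Cfsg.omegaCenterOf (S : Subgroup G) = Z0 T ∧ Nat.card (Z0 T) = 4 ∧ T = (S : Subgroup G)) ∨
      (Cfsg.omegaCenterOf T = Z0 T ∧ Nat.card (Z0 T) = 4 ∧
        (L ⊓ centralizer (Z0 T : Set G)).relIndex (normalizer (Z0 T : Set G)) = 2) := by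
  by_cases hne : T = (S : Subgroup G)
  · subst hne
    obtain ⟨K', L', c0, c', hne, -⟩ := exists_second' hII S c hTL
    obtain ⟨h1, h2 | h2⟩ := TeqS S c0 c' hTL hne
    · exact Or.inl ⟨h1, h2⟩
    · exact Or.inr (Or.inl ⟨h1, h2, rfl⟩)
  · rcases (TltS c hTL hT S hMJ hTS hne).1 with h | h
    · exact Or.inl h
    · exact Or.inr (Or.inr h)

/-- `Z₀ ≤ Z(T)`. -/
theorem Z0_central (hII : CaseII G) (S : Sylow 2 G)
    (hMJ : normalizer (J (S : Subgroup G) : Set G) ≤ M)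
    (hT : T ∈ Cfsg.maxStraddlingTwoSubgroups M) (hTS : T ≤ (S : Subgroup G))
    (c : Ctx M T K L) (hTL : T ≤ L) : ∀ t ∈ T, ∀ a ∈ Z0 T, t * a = a * t := by
  intro t ht a ha
  rcases main51 hII S hMJ hT hTS c hTL with h | h | h
  · rw [← h.1] at ha; exact OZ_comm ha (hTS ht)
  · rw [← h.1] at ha; exact OZ_comm ha (hTS ht)
  · rw [← h.1] at ha; exact OZ_comm ha ht

/-- the conclusion of S2953 from two contexts with different maximal 2-locals. -/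
theorem concl53 {M' K' L' : Subgroup G} (c : Ctx M' T K L) (c' : Ctx M' T K' L') (hne : L' ≠ L)
    (hTL : T ≤ L) (hTL' : T ≤ L') (hZ0 : ∀ t ∈ T, ∀ a ∈ Z0 T, t * a = a * t) :
    ∃ K₁ K₂ : Subgroup G, K₁ ≠ K₂ ∧ Cfsg.IsJComponent T K₁ ∧ Cfsg.IsJComponent T K₂ ∧
      Cfsg.pCoreOf 2 ((K₁ ⊔ T) ⊔ (K₂ ⊔ T)) = ⊥ ∧
      ∀ P ∈ [K₁ ⊔ T, K₂ ⊔ T], PClause T P := by
  have ps1 := P_struct c hTL hZ0
  have ps2 := P_struct c' hTL' hZ0
  refine ⟨K, K', ?_, c.hK, c'.hK, ?_, ?_⟩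
  · intro h
    subst h
    exact hne (c.unique c'.hL c'.hKL c'.hJL)
  · have hn := Cfsg.Agent.Lib.Helper49.le_normalizer_pCoreOf 2 ((K ⊔ T) ⊔ (K' ⊔ T))
    exact c.core_bot c' hne (Cfsg.Agent.Lib.Helper49.pCoreOf_isPGroup 2 _)
      ((le_sup_left.trans le_sup_left).trans hn) ((le_sup_left.trans le_sup_right).trans hn)
      (((thompsonSubgroupOf_le' 2 T).trans (le_sup_right.trans le_sup_left)).trans hn)
  · intro P hP
    simp only [List.mem_cons, List.not_mem_nil, or_false] at hP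
    rcases hP with rfl | rfl
    · exact ps1.2.2.2
    · exact ps2.2.2.2

theorem main53 (zn : ZN G) (hO : Cfsg.pCore 2 G = ⊥) (hII : CaseII G) (S : Sylow 2 G)
    (hM : Cfsg.IsTwoLocal M) (hMJ : normalizer (J (S : Subgroup G) : Set G) ≤ M)
    (hT : T ∈ Cfsg.maxStraddlingTwoSubgroups M) :
    ∃ K₁ K₂ : Subgroup G, K₁ ≠ K₂ ∧ Cfsg.IsJComponent T K₁ ∧ Cfsg.IsJComponent T K₂ ∧
      Cfsg.pCoreOf 2 ((K₁ ⊔ T) ⊔ (K₂ ⊔ T)) = ⊥ ∧
      ∀ P ∈ [K₁ ⊔ T, K₂ ⊔ T], PClause T P := by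
  obtain ⟨S', hMJ', hTS⟩ := exists_sylow_ge S hMJ hT.1.1 hT.1.2.2.1
  obtain ⟨K, hK⟩ := Cfsg.Agent.S2949.result zn.hL zn.hN zn.hZ hO S' M hM hMJ' T hT
  obtain ⟨L, c, hTL⟩ := ctx_of zn hO S' hM hMJ' hT hK
  have hZ0 := Z0_central hII S' hMJ' hT hTS c hTL
  by_cases hne : T = (S' : Subgroup G)
  · subst hne
    obtain ⟨K', L', c0, c', hne, hSL'⟩ := exists_second' hII S' c hTL
    exact concl53 c0 c' hne hTL hSL' hZ0
  · obtain ⟨s, hsS, hsN, hsT, -⟩ := exists_sq_mem S'.2 (lt_of_le_of_ne hTS hne)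
    have hsJ : s ∈ normalizer (J T : Set G) := normalizer_le_normalizer_thompsonSubgroupOf 2 T hsN
    have hTL' : T ≤ conjS s L := by
      have := conjS_mono s hTL
      rwa [conjS_eq_of_mem_normalizer hsN] at this
    exact concl53 c (c.conj hsJ) (c.conj_ne (c.not_mem hTL S'.2 hTS hsS hsT)) hTL hTL' hZ0

theorem main52 (zn : ZN G) (hO : Cfsg.pCore 2 G = ⊥) (hII : CaseII G) (S : Sylow 2 G)
    (hM : Cfsg.IsTwoLocal M) (hMJ : normalizer (J (S : Subgroup G) : Set G) ≤ M)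
    (hT : T ∈ Cfsg.maxStraddlingTwoSubgroups M) (hK : K ∈ Cfsg.jComponentsOutside M T) :
    (K.subgroupOf (K ⊔ T)).Normal := by
  obtain ⟨S', hMJ', hTS⟩ := exists_sylow_ge S hMJ hT.1.1 hT.1.2.2.1
  obtain ⟨L, c, hTL⟩ := ctx_of zn hO S' hM hMJ' hT hK
  have hZ0 := Z0_central hII S' hMJ' hT hTS c hTL
  exact normal_subgroupOf_of_le_normalizer (sup_le le_normalizer (P_struct c hTL hZ0).1)

end Cfsg.Agent.Lib.Helper55.KS
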