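import Cfsg.Agent.Lib.Helper55.KS.Rows
import Cfsg.Agent.Lib.Helper33.KS.SymAmalgam

set_option autoImplicit false

namespace Cfsg.Agent.Lib.Helper55.KS

open Cfsg.Agent.Lib.Helper48

universe u

variable {G : Type u} [Group G] [Finite G]

/-- helper33's symmetric amalgam theorem. -/
theorem symAm : SymAm G := fun _ _ _ h => Cfsg.Agent.Lib.Helper33.KS.symAmalgam h

theorem caseII' (zn : ZN G) (hO : Cfsg.pCore 2 G = ⊥) : CaseII G := caseII zn hO symAm

end Cfsg.Agent.Lib.Helper55.KS
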