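import Cfsg.Agent.Lib.Helper55.KS.C1
import Cfsg.Agent.Lib.Helper55.KS.A1
import Cfsg.Agent.Lib.Helper55.KS.A2

set_option autoImplicit false

namespace Cfsg.Agent.Lib.Helper55.KS

open Subgroup
open Cfsg.Agent.Lib.Helper22 (conjS mem_conjS conjS_mem conjS_eq_of_mem_normalizer)
open Cfsg.Agent.Lib.Helper47 (IsSylowIn)
open Cfsg.Agent.Lib.Helper48

universe u

variable {G : Type u} [Group G] [Finite G] {M T K L : Subgroup G}

/-- the case `T < S`: S2951 + `Z₀ ≤ Z(T)` + no element of `Z₀ - Z` is conjugate into `Z`. -/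
theorem TltS (c : Ctx M T K L) (hTL : T ≤ L) (hT : T ∈ Cfsg.maxStraddlingTwoSubgroups M)
    (S : Sylow 2 G) (hMJ : normalizer (J (S : Subgroup G) : Set G) ≤ M)
    (hTS : T ≤ (S : Subgroup G)) (hne : T ≠ (S : Subgroup G)) :
    ((Cfsg.omegaCenterOf (S : Subgroup G) = Z0 T ∧ Nat.card (Z0 T) = 2) ∨
      (Cfsg.omegaCenterOf T = Z0 T ∧ Nat.card (Z0 T) = 4 ∧
        (L ⊓ centralizer (Z0 T : Set G)).relIndex (normalizer (Z0 T : Set G)) = 2)) ∧
    (∀ t ∈ T, ∀ a ∈ Z0 T, t * a = a * t) ∧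
    (∀ u ∈ Z0 T, ∀ g : G, g * u * g⁻¹ ∈ Cfsg.omegaCenterOf (S : Subgroup G) →
      u ∈ Cfsg.omegaCenterOf (S : Subgroup G)) := by
  classical
  obtain ⟨s, hsS, hsNT, hsT, hs2⟩ := exists_sq_mem S.2 (lt_of_le_of_ne hTS hne)
  have hsL : s ∉ L := c.not_mem hTL S.2 hTS hsS hsT
  have hNTJ : normalizer (T : Set G) ≤ normalizer (J T : Set G) :=
    normalizer_le_normalizer_thompsonSubgroupOf 2 T
  have hsNJ : s ∈ normalizer (J T : Set G) := hNTJ hsNT
  have hTNJ : T ≤ normalizer (J T : Set G) := le_normalizer.trans hNTJ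
  have hZ0J : Z0 T ≤ J T := fun a ha => (mem_inf.mp (omegaCenterOf_le _ ha)).1
  have hJT : J T ≤ T := thompsonSubgroupOf_le' 2 T
  have hS1 : (S : Subgroup G) ≠ ⊥ := by
    intro h
    apply c.ms.hT1
    rw [eq_bot_iff, ← h]
    exact hTS
  have hZle : Cfsg.omegaCenterOf (S : Subgroup G) ≤ Z0 T :=
    (OZ_sylow_le S hTS (c.mem hTL)).trans (OZ_le_Z0 c.ms.hT2)
  have hexp : ∀ a ∈ Z0 T, a * a = 1 := fun a ha => OZ_sq ha
  have hcomm : ∀ a ∈ Z0 T, ∀ b ∈ Z0 T, a * b = b * a := fun a ha b hb => OZ_comm hb (hZ0J ha)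
  have hmain := abs_TltS (Z₀ := Z0 T) (Y := YY T K) (Z := Cfsg.omegaCenterOf (S : Subgroup G))
    (N := normalizer (J T : Set G)) (L := L) (T := T) (s := s)
    hexp hcomm YY_le c.card_Z0_le (fun g hg => Z0_conj hg)
    (fun g hg y hy hy1 hgy => c.mem_of_conj_mem hg hy hy1 hgy) hTNJ hTL hsNJ hsL hZle
    (OZ_ne_bot S.2 hS1)
    (fun z hz => OZ_comm hz hsS) (fun t ht z hz => OZ_comm hz (hTS ht))
  rcases hmain with ⟨hZeq, hc2⟩ | ⟨hc4, hTc, y, hy, hy1, hsy, hzZ, hall, hZall⟩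
  · refine ⟨Or.inl ⟨hZeq, hc2⟩, ?_, ?_⟩
    · intro t ht a ha
      rw [← hZeq] at ha
      exact OZ_comm ha (hTS ht)
    · intro u hu g _
      rw [hZeq]; exact hu
  · have hOZT : Cfsg.omegaCenterOf T = Z0 T :=
      le_antisymm (OZ_le_Z0 c.ms.hT2)
        (fun a ha => mem_OZ (hJT (hZ0J ha)) (fun t ht => hTc t ht a ha) (hexp a ha))
    have hsM : s ∈ M := sylow_le_of S hMJ hsS
    have hNZ0 : normalizer (J T : Set G) ≤ normalizer (Z0 T : Set G) :=
      normalizer_le_normalizer_omegaCenterOf _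
    have hZ0ne : Z0 T ≠ ⊥ := by
      intro h
      rw [h, card_bot] at hc4
      norm_num at hc4
    have hZ02 : IsPGroup 2 (Z0 T) := c.ms.hT2.to_le (hZ0J.trans hJT)
    have hNM : normalizer (Z0 T : Set G) ≤ M :=
      twoLocal_le_of_lt hT (x := s) hsM hsT (S.2.to_le (sup_le hTS (zpowers_le.mpr hsS)))
        ⟨Z0 T, hZ02, hZ0ne, rfl⟩ (hTNJ.trans hNZ0) (hNZ0 hsNJ)
    have hzM : centralizer ({y * (s * y * s⁻¹)} : Set G) ≤ M := by
      have h1 : centralizer ({y * (s * y * s⁻¹)} : Set G) ≤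
          centralizer (Cfsg.omegaCenterOf (S : Subgroup G) : Set G) := by
        intro x hx
        rw [mem_centralizer_iff] at hx ⊢
        intro a ha
        rcases hZall a ha with h | h
        · rw [h]; simp
        · rw [h]; exact hx _ rfl
      exact h1.trans ((c.ms.zn.hZ S).trans
        ((normalizer_le_normalizer_thompsonSubgroupOf 2 _).trans hMJ))
    have hidx := abs_index_two (Z₀ := Z0 T) (L := L) (M := M) (s := s) (y := y) hexp hcomm hy1 hsy
      (YY_le hy) (hNZ0 hsNJ) hall hNM hzM (c.cent_not_le hy) (c.cent_le hy hy1)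
    refine ⟨Or.inr ⟨hOZT, hc4, hidx⟩, hTc, ?_⟩
    intro u hu g hg
    have hlt : Nat.card T < Nat.card (S : Subgroup G) :=
      lt_of_not_ge (fun h => hne (Subgroup.eq_of_le_of_card_ge hTS h))
    rcases hall u hu with h | h | h | h
    · rw [h]; exact one_mem _
    · exfalso
      rw [h] at hg
      exact not_conj_of_cent_le S (c.syl hTL) hlt (c.cent_le hy hy1) g hg
    · exfalso
      have c' := c.conj hsNJ
      have hTL' : T ≤ conjS s L := by
        have := conjS_mono s hTL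
        rwa [conjS_eq_of_mem_normalizer hsNT] at this
      have hy' := conj_mem_YY (K := K) hsNJ hy
      have hy'1 : s * y * s⁻¹ ≠ 1 := by
        intro h'
        apply hy1
        calc y = s⁻¹ * (s * y * s⁻¹) * s := by group
          _ = 1 := by rw [h']; group
      rw [h] at hg
      exact not_conj_of_cent_le S (c'.syl hTL') hlt (c'.cent_le hy' hy'1) g hg
    · rw [h]; exact hzZ

end Cfsg.Agent.Lib.Helper55.KS
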